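import Mathlib

set_option autoImplicit false

namespace Cfsg.Agent.Lib.Helper59.RkF

/-- A fixed-point-free involutory automorphism of a finite group inverts it, so the group is
commutative. -/
theorem fpf_invol_comm {P : Type*} [Group P] [Finite P] (ι : MulAut P) (hι : ∀ x, ι (ι x) = x)
    (hfix : ∀ x, ι x = x → x = 1) : ∀ x y : P, x * y = y * x := by
  have hinj : Function.Injective (fun x : P => x⁻¹ * ι x) := by
    intro x y hxy
    have hxy' : x⁻¹ * ι x = y⁻¹ * ι y := hxy
    have h1 : ι (y * x⁻¹) = y * x⁻¹ := by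
      rw [map_mul, map_inv]
      have h2 : ι x = x * (y⁻¹ * ι y) := by rw [← hxy']; group
      rw [h2]
      group
    have h3 := hfix _ h1
    exact (mul_inv_eq_one.mp h3).symm
  have hsurj : Function.Surjective (fun x : P => x⁻¹ * ι x) := Finite.surjective_of_injective hinj
  have hinv : ∀ g : P, ι g = g⁻¹ := by
    intro g
    obtain ⟨x, rfl⟩ := hsurj g
    show ι (x⁻¹ * ι x) = (x⁻¹ * ι x)⁻¹
    rw [map_mul, map_inv, hι]
    group
  intro x y
  have h1 : ι (x * y) = ι x * ι y := map_mul ι x y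
  rw [hinv, hinv, hinv] at h1
  have h2 : (x * y)⁻¹⁻¹ = (x⁻¹ * y⁻¹)⁻¹ := by rw [h1]
  rw [inv_inv, mul_inv_rev, inv_inv, inv_inv] at h2
  exact h2

/-- The obstruction to an element of order `p ≥ 5` acting on `C_{p²} × C_{p²}` nontrivially on
the socle. -/
theorem cp2_obstruction {W : Type*} [CommGroup W] {p : ℕ} [Fact p.Prime] (hp : 5 ≤ p) (c : W →* W)
    (hc : ∀ u, c^[p] u = u)
    (hV : ∀ v : W, v ^ p = 1 → c (c v * v⁻¹) = c v * v⁻¹)
    (hpow : ∀ v : W, v ^ p = 1 → ∃ u : W, u ^ p = v) : ∀ v : W, v ^ p = 1 → c v = v := by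
  have hpp := (Fact.out : p.Prime)
  obtain ⟨ν, hν⟩ : ∃ ν : W →* W, ∀ u, ν u = c u * u⁻¹ :=
    ⟨{ toFun := fun u => c u * u⁻¹
       map_one' := by simp
       map_mul' := by
        intro a b
        rw [map_mul, mul_inv]
        exact mul_mul_mul_comm _ _ _ _ }, fun u => rfl⟩
  have hcν : ∀ u, c u = u * ν u := by
    intro u
    rw [hν, mul_comm, inv_mul_cancel_right]
  have hνν : ∀ v, v ^ p = 1 → ν (ν v) = 1 := by
    intro v hv
    rw [hν (ν v), hν v, hV v hv, mul_inv_cancel]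
  intro v hv
  obtain ⟨u, hu⟩ := hpow v hv
  obtain ⟨n1, hn1⟩ : ∃ n1, n1 = ν u := ⟨_, rfl⟩
  obtain ⟨n2, hn2⟩ : ∃ n2, n2 = ν n1 := ⟨_, rfl⟩
  obtain ⟨n3, hn3⟩ : ∃ n3, n3 = ν n2 := ⟨_, rfl⟩
  have hn2p : n2 ^ p = 1 := by
    rw [hn2, hn1, ← map_pow, ← map_pow, hu]
    exact hνν v hv
  have hn3p : n3 ^ p = 1 := by
    rw [hn3, ← map_pow, hn2p, map_one]
  have hn4 : ν n3 = 1 := by
    rw [hn3]
    exact hνν n2 hn2p
  have hc1 : c u = u * n1 := by rw [hn1]; exact hcν u
  have hc2 : c n1 = n1 * n2 := by rw [hn2]; exact hcν n1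
  have hc3 : c n2 = n2 * n3 := by rw [hn3]; exact hcν n2
  have hc4 : c n3 = n3 := by rw [hcν n3, hn4, mul_one]
  have key : ∀ j : ℕ, c^[j] u = u * n1 ^ j * n2 ^ (j.choose 2) * n3 ^ (j.choose 3) := by
    intro j
    induction j with
    | zero => simp
    | succ j ih =>
      rw [Function.iterate_succ_apply', ih, map_mul, map_mul, map_mul, map_pow, map_pow, map_pow,
        hc1, hc2, hc3, hc4, mul_pow, mul_pow]
      have e2 : (j + 1).choose 2 = j + j.choose 2 := by
        rw [Nat.choose_succ_succ', Nat.choose_one_right]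
      have e3 : (j + 1).choose 3 = j.choose 2 + j.choose 3 := by
        rw [Nat.choose_succ_succ']
      rw [e2, e3, pow_add n2, pow_add n3, pow_succ n1]
      simp only [mul_assoc, mul_comm, mul_left_comm]
  have h1 := key p
  rw [hc u] at h1
  have hd2 : p ∣ p.choose 2 := hpp.dvd_choose_self (by norm_num) (by omega)
  have hd3 : p ∣ p.choose 3 := hpp.dvd_choose_self (by norm_num) (by omega)
  obtain ⟨k2, hk2⟩ := hd2
  obtain ⟨k3, hk3⟩ := hd3
  rw [hk2, hk3, pow_mul, pow_mul, hn2p, hn3p, one_pow, one_pow, mul_one, mul_one] at h1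
  have h2 : n1 ^ p = 1 := by
    have := h1.symm
    exact mul_eq_left.mp this
  have h3 : ν v = 1 := by
    rw [← hu, map_pow, ← hn1, h2]
  rw [hcν v, h3, mul_one]

/-- If the kernel of `f` is a `p`-group and a Sylow `p`-subgroup `T` is not normal, then its
image in the range of `f` is not normal either. -/
theorem sylow_map_not_normal {G G' : Type*} [Group G] [Finite G] [Group G'] {p : ℕ} [Fact p.Prime]
    (f : G →* G') (hker : IsPGroup p f.ker) (T : Sylow p G) (hT : ¬ (T : Subgroup G).Normal) :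
    ¬ ((T.mapSurjective f.rangeRestrict_surjective : Sylow p f.range) : Subgroup f.range).Normal := by
  intro hn
  apply hT
  rw [Sylow.coe_mapSurjective] at hn
  have h1 : (((T : Subgroup G).map f.rangeRestrict).comap f.rangeRestrict).Normal :=
    hn.comap f.rangeRestrict
  rw [Subgroup.comap_map_eq, MonoidHom.ker_rangeRestrict] at h1
  have h2 : f.ker ≤ (T : Subgroup G) := by
    exact IsPGroup.le_sylow_of_normal hker T
  rw [sup_eq_left.mpr h2] at h1
  exact h1

end Cfsg.Agent.Lib.Helper59.RkF
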