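import Mathlib
import Cfsg.Agent.Lib.Helper55.Ess

set_option autoImplicit false

namespace Cfsg.Agent.Lib.Helper59.RkF

open Cfsg.Agent.Lib.Helper55

theorem mem_of_pow_mem {G : Type*} [Group G] {p : ℕ} [hp : Fact p.Prime] (B : Subgroup G) {y : G}
    (hy : y ^ p = 1) {n : ℕ} (hn : ¬ p ∣ n) (h : y ^ n ∈ B) : y ∈ B := by
  have hcop : Nat.Coprime n p := ((Nat.Prime.coprime_iff_not_dvd hp.out).mpr hn).symm
  obtain ⟨m, -, hm⟩ := Nat.exists_mul_mod_eq_one_of_coprime hcop hp.out.one_lt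
  have h1 : (y ^ n) ^ m = y := by
    rw [← pow_mul, pow_eq_pow_mod _ hy, hm, pow_one]
  rw [← h1]
  exact B.pow_mem h m

theorem exists_pow_of_mem_zpowers {G : Type*} [Group G] [Finite G] {x y : G}
    (h : x ∈ Subgroup.zpowers y) : ∃ n : ℕ, y ^ n = x := by
  rw [← mem_powers_iff_mem_zpowers, Submonoid.mem_powers_iff] at h
  exact h

variable {H : Type*} [Group H] {p : ℕ} [Fact p.Prime]

omit [Fact p.Prime] in
theorem aut_pow_fix (α : MulAut H) {y : H} (hy : α y = y) (n : ℕ) : (α ^ n) y = y := by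
  induction n with
  | zero => simp
  | succ n ih => rw [pow_succ, MulAut.mul_apply, hy, ih]

omit [Fact p.Prime] in
theorem tv_pow (α : MulAut H) {x y : H} (hy : α y = y) (hx : α x = x * y) (n : ℕ) :
    (α ^ n) y = y ∧ (α ^ n) x = x * y ^ n := by
  induction n with
  | zero => simp
  | succ n ih =>
    rw [pow_succ, MulAut.mul_apply, MulAut.mul_apply, hy, hx, map_mul, ih.1, ih.2]
    exact ⟨rfl, by rw [pow_succ, mul_assoc]⟩

omit [Fact p.Prime] in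
theorem w_apply (hcomm : ∀ a b : H, a * b = b * a) (hexp : ∀ h : H, h ^ p = 1) (α β : MulAut H)
    {e₁ e₂ : H} (hα1 : α e₁ = e₁) (hα2 : α e₂ = e₂ * e₁) (hβ1 : β e₂ = e₂)
    (hβ2 : β e₁ = e₁ * e₂) (a j : ℕ) (haj : p ∣ a * j + 1) :
    (α ^ a * β ^ j * α ^ a) e₁ = e₂ ^ j ∧ (α ^ a * β ^ j * α ^ a) e₂ = e₁ ^ a := by
  have hC : ∀ a b : H, Commute a b := hcomm
  obtain ⟨c, hc⟩ := haj
  constructor
  · rw [MulAut.mul_apply, MulAut.mul_apply, (tv_pow α hα1 hα2 a).1, (tv_pow β hβ1 hβ2 j).2,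
      map_mul, (tv_pow α hα1 hα2 a).1, map_pow, (tv_pow α hα1 hα2 a).2,
      (hC e₂ (e₁ ^ a)).mul_pow j, ← pow_mul, hcomm e₁, mul_assoc, ← pow_succ, hc, pow_mul, hexp,
      one_pow, mul_one]
  · have hin : (β ^ j) ((α ^ a) e₂) = e₁ ^ a := by
      rw [(tv_pow α hα1 hα2 a).2, map_mul, map_pow, (tv_pow β hβ1 hβ2 j).1, (tv_pow β hβ1 hβ2 j).2,
        (hC e₁ (e₂ ^ j)).mul_pow a, ← pow_mul, hcomm (e₁ ^ a), ← mul_assoc, ← pow_succ',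
        mul_comm j a, hc, pow_mul, hexp, one_pow, one_mul]
    rw [MulAut.mul_apply, MulAut.mul_apply, hin, map_pow, (tv_pow α hα1 hα2 a).1]

theorem torus_exists [Finite H] (hp : 5 ≤ p)
    (hcard : Nat.card H = p ^ 2) (Γ : Subgroup (MulAut H)) (Q : Sylow p Γ)
    (hQ : ¬ (Q : Subgroup Γ).Normal) :
    (∀ h : H, h ^ p = 1) ∧
    ∃ e₁ e₂ : H, e₁ ≠ 1 ∧ e₂ ≠ 1 ∧ (∀ i j : ℕ, e₁ ^ i = e₂ ^ j → e₁ ^ i = 1) ∧
      (∀ h : H, ∃ i j : ℕ, h = e₁ ^ i * e₂ ^ j) ∧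
      (∀ τ : Γ, τ ∈ Q → (τ : MulAut H) e₁ = e₁ ∧ ∃ k : ℕ, (τ : MulAut H) e₂ = e₂ * e₁ ^ k) ∧
      (∃ τ : Γ, τ ∈ Q ∧ (τ : MulAut H) e₂ = e₂ * e₁) ∧
      (∃ δ : Γ, (δ : MulAut H) e₁ = e₁ ^ 2 ∧ (δ : MulAut H) e₂ = e₂ ^ ((p + 1) / 2) ∧
        ∀ τ : Γ, τ ∈ Q → δ * τ * δ⁻¹ ∈ Q) ∧
      (∃ ι : Γ, ∀ h : H, (ι : MulAut H) h = h⁻¹) ∧
      (∀ B : Subgroup H, (∀ γ ∈ Γ, ∀ x ∈ B, γ x ∈ B) → B = ⊥ ∨ B = ⊤) := by
  have hpp := (Fact.out : p.Prime)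
  have hexp : ∀ h : H, h ^ p = 1 := ess_pow_p hcard Γ Q hQ
  have hcomm : ∀ a b : H, a * b = b * a :=
    isMulCommutative_iff.mp (IsPGroup.isMulCommutative_of_card_eq_prime_sq hcard)
  have hC : ∀ a b : H, Commute a b := hcomm
  refine ⟨hexp, ?_⟩
  obtain ⟨α', β', k', l', hα'Γ, hβ'Γ, hα'k, hβ'l, hα'1, hβ'1, hne'⟩ :=
    ess_exists_pair hcard Γ Q hQ
  have hQne : (Q : Subgroup Γ) ≠ ⊥ := by
    intro h0
    apply hQ
    rw [h0]
    infer_instance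
  obtain ⟨τ₀, hτ₀Q, hτ₀1⟩ : ∃ τ₀ : Γ, τ₀ ∈ Q ∧ τ₀ ≠ 1 := by
    obtain ⟨⟨x, hx⟩, hx1⟩ := (Subgroup.ne_bot_iff_exists_ne_one).mp hQne
    exact ⟨x, hx, fun h => hx1 (Subtype.ext h)⟩
  have hQp : ∀ τ : Γ, τ ∈ Q → ∃ k : ℕ, (τ : MulAut H) ^ (p ^ k) = 1 := by
    intro τ hτ
    obtain ⟨k, hk⟩ := Q.isPGroup' ⟨τ, hτ⟩
    refine ⟨k, ?_⟩
    have h1 : τ ^ p ^ k = 1 := congrArg Subtype.val hk
    have h2 : ((τ ^ p ^ k : Γ) : MulAut H) = 1 := by rw [h1]; rfl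
    rw [← h2]
    rfl
  obtain ⟨α, hα⟩ : ∃ α : MulAut H, α = (τ₀ : MulAut H) := ⟨_, rfl⟩
  have hα1 : α ≠ 1 := by
    rw [hα]
    intro h
    exact hτ₀1 (Subtype.ext h)
  obtain ⟨k₀, hk₀⟩ := hQp τ₀ hτ₀Q
  rw [← hα] at hk₀
  obtain ⟨β, kβ, hβΓ, hβk, hβ1, hne⟩ : ∃ (β : MulAut H) (kβ : ℕ), β ∈ Γ ∧ β ^ (p ^ kβ) = 1 ∧
      β ≠ 1 ∧ essFix α ≠ essFix β := by
    by_cases h : essFix α = essFix α'
    · exact ⟨β', l', hβ'Γ, hβ'l, hβ'1, fun h2 => hne' (h.symm.trans h2)⟩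
    · exact ⟨α', k', hα'Γ, hα'k, hα'1, h⟩
  have hc1 := card_essFix hcard α k₀ hk₀ hα1
  have hc2 := card_essFix hcard β kβ hβk hβ1
  have hinf : essFix α ⊓ essFix β = ⊥ := by
    by_contra h0
    have hd : Nat.card ↥(essFix α ⊓ essFix β) ∣ p := hc1 ▸ Subgroup.card_dvd_of_le inf_le_left
    have hcp : Nat.card ↥(essFix α ⊓ essFix β) = p := by
      rcases (Nat.dvd_prime hpp).mp hd with h1 | h1
      · exact absurd (Subgroup.card_eq_one.mp h1) h0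
      · exact h1
    have e1 : essFix α ⊓ essFix β = essFix α :=
      Subgroup.eq_of_le_of_card_ge inf_le_left (by rw [hcp, hc1])
    have e2 : essFix α ⊓ essFix β = essFix β :=
      Subgroup.eq_of_le_of_card_ge inf_le_right (by rw [hcp, hc2])
    exact hne (e1.symm.trans e2)
  have hinf' : ∀ x, x ∈ essFix α → x ∈ essFix β → x = 1 := by
    intro x h1 h2
    have : x ∈ essFix α ⊓ essFix β := Subgroup.mem_inf.mpr ⟨h1, h2⟩
    rw [hinf] at this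
    exact Subgroup.mem_bot.mp this
  obtain ⟨e₂, he₂L, he₂1⟩ : ∃ e₂ ∈ essFix β, e₂ ≠ 1 := by
    have hnb : essFix β ≠ ⊥ := by
      intro h0
      rw [h0, Subgroup.card_bot] at hc2
      exact hpp.one_lt.ne hc2
    obtain ⟨⟨x, hx⟩, hx1⟩ := (Subgroup.ne_bot_iff_exists_ne_one).mp hnb
    exact ⟨x, hx, fun h => hx1 (Subtype.ext h)⟩
  obtain ⟨e₁, he₁⟩ : ∃ e₁, e₁ = α e₂ * e₂⁻¹ := ⟨_, rfl⟩
  have he₁L : e₁ ∈ essFix α := he₁ ▸ essFix_comm_mem hcard α k₀ hk₀ hα1 e₂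
  have he₁1 : e₁ ≠ 1 := by
    intro h
    rw [he₁, mul_inv_eq_one] at h
    exact he₂1 (hinf' e₂ h he₂L)
  have hαe₁ : α e₁ = e₁ := he₁L
  have hαe₂ : α e₂ = e₂ * e₁ := by rw [he₁, hcomm, inv_mul_cancel_right]
  have hβe₂ : β e₂ = e₂ := he₂L
  obtain ⟨w, hw⟩ : ∃ w, w = β e₁ * e₁⁻¹ := ⟨_, rfl⟩
  have hwL : w ∈ essFix β := hw ▸ essFix_comm_mem hcard β kβ hβk hβ1 e₁
  have hw1 : w ≠ 1 := by
    intro h
    rw [hw, mul_inv_eq_one] at h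
    exact he₁1 (hinf' e₁ he₁L h)
  have hβe₁ : β e₁ = e₁ * w := by rw [hw, hcomm, inv_mul_cancel_right]
  have ho1 : orderOf e₁ = p := orderOf_eq_prime (hexp e₁) he₁1
  have ho2 : orderOf e₂ = p := orderOf_eq_prime (hexp e₂) he₂1
  -- a subgroup of order `p` containing a nontrivial `x` is `zpowers x`
  have hzp : ∀ (M : Subgroup H) (x : H), Nat.card M = p → x ∈ M → x ≠ 1 →
      M = Subgroup.zpowers x := by
    intro M x hM hx hx1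
    symm
    apply Subgroup.eq_of_le_of_card_ge
    · rw [Subgroup.zpowers_le]; exact hx
    · rw [Nat.card_zpowers, orderOf_eq_prime (hexp x) hx1, hM]
  obtain ⟨m, hm⟩ : ∃ m : ℕ, e₂ ^ m = w := by
    have h1 := hzp (essFix β) e₂ hc2 he₂L he₂1
    exact exists_pow_of_mem_zpowers (h1 ▸ hwL)
  have hmp : ¬ p ∣ m := by
    rintro ⟨c, rfl⟩
    apply hw1
    rw [← hm, pow_mul, hexp, one_pow]
  obtain ⟨m', -, hm'⟩ := Nat.exists_mul_mod_eq_one_of_coprime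
    (((Nat.Prime.coprime_iff_not_dvd hpp).mpr hmp).symm) hpp.one_lt
  obtain ⟨β₁, hβ₁⟩ : ∃ β₁ : MulAut H, β₁ = β ^ m' := ⟨_, rfl⟩
  have hβ₁Γ : β₁ ∈ Γ := hβ₁ ▸ Γ.pow_mem hβΓ m'
  have hwβ : β w = w := hwL
  have hβ₁e₂ : β₁ e₂ = e₂ := by
    rw [hβ₁]
    exact aut_pow_fix β hβe₂ m'
  have hβ₁e₁ : β₁ e₁ = e₁ * e₂ := by
    rw [hβ₁, (tv_pow β hwβ hβe₁ m').2, ← hm, ← pow_mul, pow_eq_pow_mod _ (hexp e₂), hm', pow_one]
  -- independence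
  have hind : ∀ i j : ℕ, e₁ ^ i = e₂ ^ j → e₁ ^ i = 1 := by
    intro i j hij
    apply hinf'
    · exact Subgroup.pow_mem _ he₁L i
    · rw [hij]
      exact Subgroup.pow_mem _ he₂L j
  -- generation
  have hgen : ∀ h : H, ∃ i j : ℕ, h = e₁ ^ i * e₂ ^ j := by
    have hinj : Function.Injective (fun x : Fin p × Fin p => e₁ ^ (x.1 : ℕ) * e₂ ^ (x.2 : ℕ)) := by
      rintro ⟨i, j⟩ ⟨i', j'⟩ hx
      have hx' : e₁ ^ (i : ℕ) * e₂ ^ (j : ℕ) = e₁ ^ (i' : ℕ) * e₂ ^ (j' : ℕ) := hx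
      have h1 : e₁ ^ ((i : ℤ) - (i' : ℤ)) = e₂ ^ ((j' : ℤ) - (j : ℤ)) := by
        rw [zpow_sub, zpow_sub, zpow_natCast, zpow_natCast, zpow_natCast, zpow_natCast]
        have h2 : e₁ ^ (i : ℕ) = e₁ ^ (i' : ℕ) * e₂ ^ (j' : ℕ) * (e₂ ^ (j : ℕ))⁻¹ :=
          eq_mul_inv_of_mul_eq hx'
        rw [mul_inv_eq_iff_eq_mul, h2, hcomm (e₂ ^ (j' : ℕ) * (e₂ ^ (j : ℕ))⁻¹) (e₁ ^ (i' : ℕ)),
          mul_assoc]
      have h3 : e₁ ^ ((i : ℤ) - (i' : ℤ)) = 1 := by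
        apply hinf'
        · exact Subgroup.zpow_mem _ he₁L _
        · rw [h1]
          exact Subgroup.zpow_mem _ he₂L _
      have h4 : e₂ ^ ((j' : ℤ) - (j : ℤ)) = 1 := by rw [← h1, h3]
      have h5 := (orderOf_dvd_iff_zpow_eq_one).mpr h3
      have h6 := (orderOf_dvd_iff_zpow_eq_one).mpr h4
      rw [ho1] at h5
      rw [ho2] at h6
      have hi := i.2
      have hi' := i'.2
      have hj := j.2
      have hj' := j'.2
      have e1 : (i : ℤ) = (i' : ℤ) := by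
        obtain ⟨c, hc⟩ := h5
        have : c = 0 := by
          by_contra hc0
          rcases lt_or_gt_of_ne hc0 with h | h
          · have : (p : ℤ) * c ≤ (p : ℤ) * (-1) := by nlinarith
            omega
          · have : (p : ℤ) * 1 ≤ (p : ℤ) * c := by nlinarith
            omega
        rw [this] at hc
        omega
      have e2 : (j' : ℤ) = (j : ℤ) := by
        obtain ⟨c, hc⟩ := h6
        have : c = 0 := by
          by_contra hc0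
          rcases lt_or_gt_of_ne hc0 with h | h
          · have : (p : ℤ) * c ≤ (p : ℤ) * (-1) := by nlinarith
            omega
          · have : (p : ℤ) * 1 ≤ (p : ℤ) * c := by nlinarith
            omega
        rw [this] at hc
        omega
      ext
      · exact_mod_cast e1
      · exact_mod_cast e2.symm
    have hbij : Function.Bijective (fun x : Fin p × Fin p => e₁ ^ (x.1 : ℕ) * e₂ ^ (x.2 : ℕ)) := by
      apply Function.Injective.bijective_of_nat_card_le hinj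
      rw [hcard, Nat.card_prod, Nat.card_fin, pow_two]
    intro h
    obtain ⟨⟨i, j⟩, hij⟩ := hbij.2 h
    exact ⟨i, j, hij.symm⟩
  -- two automorphisms agreeing on e₁, e₂ are equal
  have hext : ∀ γ γ' : MulAut H, γ e₁ = γ' e₁ → γ e₂ = γ' e₂ → ∀ h, γ h = γ' h := by
    intro γ γ' h1 h2 h
    obtain ⟨i, j, rfl⟩ := hgen h
    rw [map_mul, map_mul, map_pow, map_pow, map_pow, map_pow, h1, h2]
  -- the common fixed point of Q
  have hQfix : ∀ τ : Γ, τ ∈ Q → (τ : MulAut H) e₁ = e₁ := by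
    have hdvd : p ∣ Nat.card H := by rw [hcard]; exact dvd_pow_self p (by norm_num)
    have h1 : (1 : H) ∈ MulAction.fixedPoints (Q : Subgroup Γ) H := by
      intro q
      show ((q : Γ) : MulAut H) 1 = 1
      exact map_one _
    obtain ⟨x, hx, hx1⟩ := Q.isPGroup'.exists_fixed_point_of_prime_dvd_card_of_fixed_point H hdvd h1
    have hxfix : ∀ τ : Γ, τ ∈ Q → (τ : MulAut H) x = x := fun τ hτ => hx ⟨τ, hτ⟩
    have hxα : x ∈ essFix α := by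
      rw [mem_essFix, hα]
      exact hxfix τ₀ hτ₀Q
    have h2 := hzp (essFix α) x hc1 hxα (fun h => hx1 h.symm)
    obtain ⟨n, hn⟩ := exists_pow_of_mem_zpowers (h2 ▸ he₁L)
    intro τ hτ
    rw [← hn, map_pow, hxfix τ hτ]
  obtain ⟨L, hL⟩ : ∃ L : Subgroup H, L = Subgroup.zpowers e₁ := ⟨_, rfl⟩
  have he₁mem : e₁ ∈ L := hL ▸ Subgroup.mem_zpowers e₁
  have hLpow : ∀ l ∈ L, ∃ n : ℕ, e₁ ^ n = l := fun l hl =>
    exists_pow_of_mem_zpowers (hL ▸ hl)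
  have hQtv : ∀ τ : Γ, τ ∈ Q → (τ : MulAut H) ∈ essTv L := by
    intro τ hτ
    rw [mem_essTv]
    constructor
    · intro l hl
      obtain ⟨n, rfl⟩ := hLpow l hl
      rw [map_pow, hQfix τ hτ]
    · intro h
      by_cases h1 : (τ : MulAut H) = 1
      · rw [h1]
        simp
      · obtain ⟨k, hk⟩ := hQp τ hτ
        have h2 := essFix_comm_mem hcard (τ : MulAut H) k hk h1 h
        have h3 := hzp (essFix (τ : MulAut H)) e₁ (card_essFix hcard _ k hk h1)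
          (hQfix τ hτ) he₁1
        rw [hL, ← h3]
        exact h2
  have hQY : (Q : Subgroup Γ) = (essTv L).subgroupOf Γ := by
    symm
    apply Q.is_maximal'
    · rintro ⟨y, hy⟩
      refine ⟨1, ?_⟩
      rw [pow_one]
      apply Subtype.ext
      apply Subtype.ext
      have h1 : ((y : Γ) : MulAut H) ^ p = 1 :=
        essTv_pow_p hcomm L (fun l _ => hexp l) _ (Subgroup.mem_subgroupOf.mp hy)
      exact h1
    · intro τ hτ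
      exact Subgroup.mem_subgroupOf.mpr (hQtv τ hτ)
  -- the elements
  obtain ⟨βΓ, hβΓ'⟩ : ∃ βΓ : Γ, (βΓ : MulAut H) = β₁ := ⟨⟨β₁, hβ₁Γ⟩, rfl⟩
  have hαΓ : ((τ₀ : Γ) : MulAut H) = α := hα.symm
  obtain ⟨j₂, hj₂⟩ : ∃ j₂ : ℕ, 2 * j₂ + 1 = p := by
    rcases hpp.eq_two_or_odd with h | h
    · omega
    · exact ⟨p / 2, by omega⟩
  obtain ⟨w₁, hw₁⟩ : ∃ w₁ : Γ, (w₁ : MulAut H) = α ^ 1 * β₁ ^ (p - 1) * α ^ 1 :=
    ⟨τ₀ ^ 1 * βΓ ^ (p - 1) * τ₀ ^ 1, by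
      rw [Subgroup.coe_mul, Subgroup.coe_mul, Subgroup.coe_pow, Subgroup.coe_pow, hαΓ, hβΓ']⟩
  obtain ⟨w₂, hw₂⟩ : ∃ w₂ : Γ, (w₂ : MulAut H) = α ^ 2 * β₁ ^ j₂ * α ^ 2 :=
    ⟨τ₀ ^ 2 * βΓ ^ j₂ * τ₀ ^ 2, by
      rw [Subgroup.coe_mul, Subgroup.coe_mul, Subgroup.coe_pow, Subgroup.coe_pow, hαΓ, hβΓ']⟩
  have hw₁a := w_apply hcomm hexp α β₁ hαe₁ hαe₂ hβ₁e₂ hβ₁e₁ 1 (p - 1)
    (by rw [one_mul, Nat.sub_add_cancel hpp.one_lt.le])
  have hw₂a := w_apply hcomm hexp α β₁ hαe₁ hαe₂ hβ₁e₂ hβ₁e₁ 2 j₂ (by rw [hj₂])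
  rw [← hw₁] at hw₁a
  rw [← hw₂] at hw₂a
  have hpow_inv : ∀ x : H, x ^ (p - 1) = x⁻¹ := by
    intro x
    rw [eq_inv_iff_mul_eq_one, ← pow_succ, Nat.sub_add_cancel hpp.one_lt.le, hexp]
  have hw₁e₁ : (w₁ : MulAut H) e₁ = e₂⁻¹ := by rw [hw₁a.1, hpow_inv]
  have hw₁e₂ : (w₁ : MulAut H) e₂ = e₁ := by rw [hw₁a.2, pow_one]
  have hw₁i1 : ((w₁⁻¹ : Γ) : MulAut H) e₁ = e₂ := by
    rw [Subgroup.coe_inv, MulAut.inv_apply, MulEquiv.symm_apply_eq, hw₁e₂]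
  have hw₁i2 : ((w₁⁻¹ : Γ) : MulAut H) e₂ = e₁⁻¹ := by
    rw [Subgroup.coe_inv, MulAut.inv_apply, MulEquiv.symm_apply_eq, map_inv, hw₁e₁, inv_inv]
  obtain ⟨δ, hδ⟩ : ∃ δ : Γ, δ = w₂ * w₁⁻¹ := ⟨_, rfl⟩
  have hδ1 : (δ : MulAut H) e₁ = e₁ ^ 2 := by
    rw [hδ, Subgroup.coe_mul, MulAut.mul_apply, hw₁i1, hw₂a.2]
  have hδ2 : (δ : MulAut H) e₂ = e₂ ^ ((p + 1) / 2) := by
    rw [hδ, Subgroup.coe_mul, MulAut.mul_apply, hw₁i2, map_inv, hw₂a.1, inv_eq_iff_eq_inv,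
      eq_inv_iff_mul_eq_one, ← pow_add]
    have : j₂ + (p + 1) / 2 = p := by omega
    rw [this, hexp]
  obtain ⟨ι, hι⟩ : ∃ ι : Γ, ι = w₁ * w₁ := ⟨_, rfl⟩
  have hι1 : (ι : MulAut H) e₁ = e₁⁻¹ := by
    rw [hι, Subgroup.coe_mul, MulAut.mul_apply, hw₁e₁, map_inv, hw₁e₂]
  have hι2 : (ι : MulAut H) e₂ = e₂⁻¹ := by
    rw [hι, Subgroup.coe_mul, MulAut.mul_apply, hw₁e₂, hw₁e₁]
  refine ⟨e₁, e₂, he₁1, he₂1, hind, hgen, ?_, ?_, ?_, ?_, ?_⟩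
  · intro τ hτ
    refine ⟨hQfix τ hτ, ?_⟩
    have h1 := ((mem_essTv L _).mp (hQtv τ hτ)).2 e₂
    obtain ⟨k, hk⟩ := hLpow _ h1
    refine ⟨k, ?_⟩
    rw [hk, hcomm, inv_mul_cancel_right]
  · exact ⟨τ₀, hτ₀Q, by rw [hαΓ]; exact hαe₂⟩
  · refine ⟨δ, hδ1, hδ2, ?_⟩
    intro τ hτ
    have hτ' := (mem_essTv L _).mp (hQtv τ hτ)
    have hδL : ∀ l ∈ L, (δ : MulAut H) l ∈ L := by
      intro l hl
      obtain ⟨n, rfl⟩ := hLpow l hl
      rw [map_pow, hδ1]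
      exact L.pow_mem (L.pow_mem he₁mem 2) n
    have hδiL : ∀ l ∈ L, ((δ⁻¹ : Γ) : MulAut H) l ∈ L := by
      intro l hl
      obtain ⟨n, rfl⟩ := hLpow l hl
      have h1 : ((δ⁻¹ : Γ) : MulAut H) e₁ = e₁ ^ ((p + 1) / 2) := by
        rw [Subgroup.coe_inv, MulAut.inv_apply, MulEquiv.symm_apply_eq, map_pow, hδ1, ← pow_mul]
        have : 2 * ((p + 1) / 2) = p + 1 := by omega
        rw [this, pow_succ, hexp, one_mul]
      rw [map_pow, h1]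
      exact L.pow_mem (L.pow_mem he₁mem _) n
    have hmem : δ * τ * δ⁻¹ ∈ (essTv L).subgroupOf Γ := by
      rw [Subgroup.mem_subgroupOf, mem_essTv]
      constructor
      · intro l hl
        rw [Subgroup.coe_mul, Subgroup.coe_mul, MulAut.mul_apply, MulAut.mul_apply,
          hτ'.1 _ (hδiL l hl), Subgroup.coe_inv, MulAut.inv_apply, MulEquiv.apply_symm_apply]
      · intro h
        obtain ⟨g, hg⟩ : ∃ g, g = ((δ⁻¹ : Γ) : MulAut H) h := ⟨_, rfl⟩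
        have hh : h = (δ : MulAut H) g := by
          rw [hg, Subgroup.coe_inv, MulAut.inv_apply, MulEquiv.apply_symm_apply]
        rw [Subgroup.coe_mul, Subgroup.coe_mul, MulAut.mul_apply, MulAut.mul_apply, ← hg, hh,
          ← map_inv, ← map_mul]
        exact hδL _ (hτ'.2 g)
    rw [← hQY] at hmem
    exact hmem
  · refine ⟨ι, ?_⟩
    intro h
    obtain ⟨i, j, rfl⟩ := hgen h
    rw [map_mul, map_pow, map_pow, hι1, hι2, inv_pow, inv_pow, mul_inv_rev]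
    exact hcomm _ _
  · intro B hB
    by_cases hB0 : B = ⊥
    · exact Or.inl hB0
    right
    obtain ⟨⟨x, hx⟩, hx1⟩ := (Subgroup.ne_bot_iff_exists_ne_one).mp hB0
    have hx1' : x ≠ 1 := fun h => hx1 (Subtype.ext h)
    obtain ⟨i, j, hij⟩ := hgen x
    have hαΓ' : α ∈ Γ := hα ▸ τ₀.2
    have h1 : e₁ ^ j ∈ B := by
      have h2 := hB α hαΓ' x hx
      have h3 : α x = x * e₁ ^ j := by
        rw [hij, map_mul, map_pow, map_pow, hαe₁, hαe₂, (hC e₂ e₁).mul_pow, mul_assoc]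
      rw [h3] at h2
      exact (Subgroup.mul_mem_cancel_left B hx).mp h2
    have h2 : e₂ ^ i ∈ B := by
      have h2 := hB β₁ hβ₁Γ x hx
      have h3 : β₁ x = x * e₂ ^ i := by
        rw [hij, map_mul, map_pow, map_pow, hβ₁e₁, hβ₁e₂, (hC e₁ e₂).mul_pow, mul_assoc,
          mul_assoc, hcomm (e₂ ^ i)]
      rw [h3] at h2
      exact (Subgroup.mul_mem_cancel_left B hx).mp h2
    have hboth : e₁ ∈ B ∧ e₂ ∈ B := by
      by_cases hj : p ∣ j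
      · have hi : ¬ p ∣ i := by
          intro hi
          apply hx1'
          obtain ⟨c, rfl⟩ := hi
          obtain ⟨d, rfl⟩ := hj
          rw [hij, pow_mul, pow_mul, hexp, hexp, one_pow, one_pow, one_mul]
        have he₂B : e₂ ∈ B := mem_of_pow_mem B (hexp e₂) hi h2
        have h3 := hB α hαΓ' e₂ he₂B
        rw [hαe₂] at h3
        exact ⟨(Subgroup.mul_mem_cancel_left B he₂B).mp h3, he₂B⟩
      · have he₁B : e₁ ∈ B := mem_of_pow_mem B (hexp e₁) hj h1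
        have h3 := hB β₁ hβ₁Γ e₁ he₁B
        rw [hβ₁e₁] at h3
        exact ⟨he₁B, (Subgroup.mul_mem_cancel_left B he₁B).mp h3⟩
    rw [eq_top_iff]
    intro h _
    obtain ⟨i', j', rfl⟩ := hgen h
    exact B.mul_mem (B.pow_mem hboth.1 _) (B.pow_mem hboth.2 _)

end Cfsg.Agent.Lib.Helper59.RkF
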