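import Mathlib
import Cfsg.Agent.S0128
import Cfsg.Agent.Lib.Helper59.QdCore
import Cfsg.Agent.Lib.Helper90.Coprime

set_option autoImplicit false

namespace Cfsg.Agent.Lib.Helper59.RkF

open Cfsg.Agent.Lib.Helper90

/-- Restriction of a group of automorphisms to an invariant subgroup. -/
def resAut {G : Type*} [Group G] (A : Subgroup (MulAut G)) (V : Subgroup G)
    (hinv : ∀ α ∈ A, ∀ x ∈ V, α x ∈ V) : A →* MulAut V where
  toFun α :=
    { toFun := fun v => ⟨(α : MulAut G) v, hinv α α.2 v v.2⟩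
      invFun := fun v => ⟨(α : MulAut G)⁻¹ v, hinv _ (A.inv_mem α.2) v v.2⟩
      left_inv := by
        intro v
        apply Subtype.ext
        simp
      right_inv := by
        intro v
        apply Subtype.ext
        simp
      map_mul' := by
        intro a b
        apply Subtype.ext
        simp }
  map_one' := by
    ext v
    rfl
  map_mul' := by
    intro a b
    ext v
    rfl

theorem resAut_apply {G : Type*} [Group G] (A : Subgroup (MulAut G)) (V : Subgroup G)
    (hinv : ∀ α ∈ A, ∀ x ∈ V, α x ∈ V) (α : A) (v : V) :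
    ((resAut A V hinv α v : V) : G) = (α : MulAut G) v := rfl

/-- The action of a group of automorphisms on the quotient by an invariant normal subgroup. -/
def quotAut {G : Type*} [Group G] (A : Subgroup (MulAut G)) (N : Subgroup G) [N.Normal]
    (hinv : ∀ α ∈ A, ∀ x ∈ N, α x ∈ N) : A →* MulAut (G ⧸ N) where
  toFun α := QuotientGroup.congr N N (α : MulAut G) (by
      apply le_antisymm
      · rintro _ ⟨x, hx, rfl⟩
        exact hinv α α.2 x hx
      · intro x hx
        refine ⟨(α : MulAut G)⁻¹ x, hinv _ (A.inv_mem α.2) x hx, ?_⟩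
        simp)
  map_one' := by
    ext x
    induction x using QuotientGroup.induction_on with
    | H x => rfl
  map_mul' := by
    intro a b
    ext x
    induction x using QuotientGroup.induction_on with
    | H x => rfl

theorem quotAut_mk {G : Type*} [Group G] (A : Subgroup (MulAut G)) (N : Subgroup G) [N.Normal]
    (hinv : ∀ α ∈ A, ∀ x ∈ N, α x ∈ N) (α : A) (x : G) :
    quotAut A N hinv α (QuotientGroup.mk x) = QuotientGroup.mk ((α : MulAut G) x) := rfl

theorem finite_mulAut (G : Type*) [Group G] [Finite G] : Finite (MulAut G) :=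
  Finite.of_injective (fun e : MulAut G => (e : G → G)) DFunLike.coe_injective

/-- The kernel of the restriction to `Ω₁` is a `p`-group (`p` odd). -/
theorem isPGroup_ker_resAut {G : Type*} [Group G] [Finite G] {p : ℕ} [hp : Fact p.Prime]
    (hp2 : p ≠ 2) (hG : IsPGroup p G) (A : Subgroup (MulAut G)) (V : Subgroup G)
    (hV : ∀ x, x ∈ V ↔ x ^ p = 1) (hinv : ∀ α ∈ A, ∀ x ∈ V, α x ∈ V) :
    IsPGroup p (resAut A V hinv).ker := by
  haveI : Finite (MulAut G) := finite_mulAut G
  apply isPGroup_of_coprime_trivial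
  rintro ⟨⟨β, hβA⟩, hβk⟩ hcop
  have hord : orderOf (⟨⟨β, hβA⟩, hβk⟩ : (resAut A V hinv).ker) = orderOf β := by
    rw [← Subgroup.orderOf_coe, ← Subgroup.orderOf_coe]
  rw [hord] at hcop
  have hfix : ∀ x ∈ V, β x = x := by
    intro x hx
    have h1 := MonoidHom.mem_ker.mp hβk
    have h2 := congrArg (fun γ : MulAut V => ((γ ⟨x, hx⟩ : V) : G)) h1
    exact h2
  have hall : ∀ x ∈ (⊤ : Subgroup G), β x = x := by
    apply aut_fix_of_fix_small β hcop (n := p) (by rw [if_neg hp2]) (Nat.card G) ⊤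
      (Subgroup.card_le_card_group _) inferInstance (hG.to_subgroup ⊤)
      (fun x _ => Subgroup.mem_top _)
    · intro x _
      rw [pow_orderOf_eq_one]
      rfl
    · intro x _ hx
      exact hfix x ((hV x).mpr hx)
  apply Subtype.ext
  apply Subtype.ext
  ext x
  exact hall x (Subgroup.mem_top x)

/-- The centre of a noncommutative group of order `p³` has order `p`. -/
theorem card_center_of_cube {G : Type*} [Group G] [Finite G] {p : ℕ} [hp : Fact p.Prime]
    (hcard : Nat.card G = p ^ 3) (hnc : ¬ ∀ a b : G, a * b = b * a) :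
    Nat.card (Subgroup.center G) = p := by
  have hpp := hp.out
  have hG : IsPGroup p G := IsPGroup.of_card hcard
  haveI : Nontrivial G := by
    rw [← Finite.one_lt_card_iff_nontrivial, hcard]
    exact Nat.one_lt_pow (by norm_num) hpp.one_lt
  have hd : Nat.card (Subgroup.center G) ∣ p ^ 3 := hcard ▸ Subgroup.card_subgroup_dvd_card _
  obtain ⟨k, hk, hkc⟩ := (Nat.dvd_prime_pow hpp).mp hd
  have hk0 : k ≠ 0 := by
    rintro rfl
    rw [pow_zero] at hkc
    have h1 : Nontrivial (Subgroup.center G) := hG.center_nontrivial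
    have h2 := Finite.one_lt_card_iff_nontrivial.mpr h1
    omega
  have hk3 : k ≠ 3 := by
    rintro rfl
    apply hnc
    have htop : Subgroup.center G = ⊤ := Subgroup.eq_top_of_card_eq _ (by rw [hkc, hcard])
    intro a b
    have ha : a ∈ Subgroup.center G := htop ▸ Subgroup.mem_top a
    exact (Subgroup.mem_center_iff.mp ha b).symm
  have hk2 : k ≠ 2 := by
    rintro rfl
    apply hnc
    have h1 := Subgroup.card_eq_card_quotient_mul_card_subgroup (Subgroup.center G)
    rw [hcard, hkc] at h1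
    have h2 : Nat.card (G ⧸ Subgroup.center G) = p := by
      have h3 : p ^ 2 * p = Nat.card (G ⧸ Subgroup.center G) * p ^ 2 := by
        rw [← h1]; ring
      have h4 : 0 < p ^ 2 := pow_pos hpp.pos 2
      nlinarith
    haveI : IsCyclic (G ⧸ Subgroup.center G) := isCyclic_of_prime_card h2
    intro a b
    exact commutative_of_cyclic_center_quotient (QuotientGroup.mk' (Subgroup.center G))
      (by rw [QuotientGroup.ker_mk']) a b
  have : k = 1 := by omega
  rw [hkc, this, pow_one]

theorem card_quot_center_of_cube {G : Type*} [Group G] [Finite G] {p : ℕ} [hp : Fact p.Prime]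
    (hcard : Nat.card G = p ^ 3) (hnc : ¬ ∀ a b : G, a * b = b * a) :
    Nat.card (G ⧸ Subgroup.center G) = p ^ 2 := by
  have hpp := hp.out
  have h1 := Subgroup.card_eq_card_quotient_mul_card_subgroup (Subgroup.center G)
  rw [hcard, card_center_of_cube hcard hnc] at h1
  have h3 : p ^ 2 * p = Nat.card (G ⧸ Subgroup.center G) * p := by
    rw [← h1]; ring
  exact (Nat.eq_of_mul_eq_mul_right hpp.pos h3).symm

/-- The kernel of the action on `G / Z(G)` is a `p`-group, for `G` noncommutative of order `p³`. -/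
theorem isPGroup_ker_quotAut {G : Type*} [Group G] [Finite G] {p : ℕ} [hp : Fact p.Prime]
    (hcard : Nat.card G = p ^ 3) (hnc : ¬ ∀ a b : G, a * b = b * a) (A : Subgroup (MulAut G))
    (hinv : ∀ α ∈ A, ∀ x ∈ Subgroup.center G, α x ∈ Subgroup.center G) :
    IsPGroup p (quotAut A (Subgroup.center G) hinv).ker := by
  have hpp := hp.out
  haveI : Finite (MulAut G) := finite_mulAut G
  have hG : IsPGroup p G := IsPGroup.of_card hcard
  have hZ := card_center_of_cube hcard hnc
  have hQ := card_quot_center_of_cube hcard hnc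
  have hQc : ∀ a b : G ⧸ Subgroup.center G, a * b = b * a :=
    isMulCommutative_iff.mp (IsPGroup.isMulCommutative_of_card_eq_prime_sq hQ)
  apply isPGroup_of_coprime_trivial
  rintro ⟨⟨β, hβA⟩, hβk⟩ hcop
  have hord : orderOf (⟨⟨β, hβA⟩, hβk⟩ : (quotAut A (Subgroup.center G) hinv).ker) = orderOf β := by
    rw [← Subgroup.orderOf_coe, ← Subgroup.orderOf_coe]
  rw [hord] at hcop
  -- β moves every element by a central element
  have hmv : ∀ x : G, x⁻¹ * β x ∈ Subgroup.center G := by
    intro x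
    have h1 := MonoidHom.mem_ker.mp hβk
    have h2 := congrArg (fun γ : MulAut (G ⧸ Subgroup.center G) => γ (QuotientGroup.mk x)) h1
    have h3 : (QuotientGroup.mk (β x) : G ⧸ Subgroup.center G) = QuotientGroup.mk x := h2
    exact QuotientGroup.eq.mp h3.symm
  -- commutators lie in the centre and are fixed by β
  obtain ⟨a, b, hab⟩ : ∃ a b : G, a * b ≠ b * a := by
    by_contra hcon
    push Not at hcon
    exact hnc hcon
  obtain ⟨c, hc⟩ : ∃ c : G, c = a * b * a⁻¹ * b⁻¹ := ⟨_, rfl⟩
  have hc1 : c ≠ 1 := by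
    intro h
    apply hab
    rw [hc] at h
    have : a * b = a * b * a⁻¹ * b⁻¹ * (b * a) := by group
    rw [this, h, one_mul]
  have hcZ : c ∈ Subgroup.center G := by
    have h1 := hQc (QuotientGroup.mk a) (QuotientGroup.mk b)
    have h2 : (QuotientGroup.mk (a * b * a⁻¹ * b⁻¹) : G ⧸ Subgroup.center G) = 1 := by
      rw [QuotientGroup.mk_mul, QuotientGroup.mk_mul, QuotientGroup.mk_mul, h1,
        QuotientGroup.mk_inv, QuotientGroup.mk_inv]
      group
    rw [hc]
    exact (QuotientGroup.eq_one_iff _).mp h2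
  have hβc : β c = c := by
    obtain ⟨za, hza⟩ : ∃ za, za = a⁻¹ * β a := ⟨_, rfl⟩
    obtain ⟨zb, hzb⟩ : ∃ zb, zb = b⁻¹ * β b := ⟨_, rfl⟩
    have hzaZ : za ∈ Subgroup.center G := hza ▸ hmv a
    have hzbZ : zb ∈ Subgroup.center G := hzb ▸ hmv b
    have h1 : β a = a * za := by rw [hza]; group
    have h2 : β b = b * zb := by rw [hzb]; group
    have ca := Subgroup.mem_center_iff.mp hzaZ
    have cb := Subgroup.mem_center_iff.mp hzbZ
    rw [hc, map_mul, map_mul, map_mul, map_inv, map_inv, h1, h2]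
    have k1 : ∀ g : G, a * za * g * (a * za)⁻¹ = a * g * a⁻¹ := by
      intro g
      have h3 : za * g * za⁻¹ = g := by rw [← ca g, mul_inv_cancel_right]
      calc a * za * g * (a * za)⁻¹ = a * (za * g * za⁻¹) * a⁻¹ := by group
        _ = a * g * a⁻¹ := by rw [h3]
    rw [k1 (b * zb)]
    have h4 : zb * a⁻¹ = a⁻¹ * zb := (cb a⁻¹).symm
    calc a * (b * zb) * a⁻¹ * (b * zb)⁻¹ = a * b * (zb * a⁻¹) * zb⁻¹ * b⁻¹ := by group
      _ = a * b * (a⁻¹ * zb) * zb⁻¹ * b⁻¹ := by rw [h4]
      _ = a * b * a⁻¹ * b⁻¹ := by group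
  have hzc : ∀ z ∈ Subgroup.center G, β z = z := by
    intro z hz
    have h1 : Subgroup.zpowers c = Subgroup.center G := by
      apply Subgroup.eq_of_le_of_card_ge
      · rw [Subgroup.zpowers_le]; exact hcZ
      · have hcp : c ^ p = 1 := by
          have := congrArg Subtype.val (pow_card_eq_one' (G := Subgroup.center G) (x := ⟨c, hcZ⟩))
          rw [hZ] at this
          exact this
        rw [Nat.card_zpowers, orderOf_eq_prime hcp hc1, hZ]
    rw [← h1] at hz
    obtain ⟨k, rfl⟩ := Subgroup.mem_zpowers_iff.mp hz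
    rw [map_zpow, hβc]
  have hall : ∀ x : G, β x = x := by
    intro x
    obtain ⟨k, hk⟩ := (hG.to_subgroup (Subgroup.center G)) ⟨x⁻¹ * β x, hmv x⟩
    have hk' : (x⁻¹ * β x) ^ p ^ k = 1 := congrArg Subtype.val hk
    apply aut_fix_of_fix_comm β hcop x (hzc _ (hmv x)) ?_ hk'
    rw [pow_orderOf_eq_one]
    rfl
  apply Subtype.ext
  apply Subtype.ext
  ext x
  exact hall x

theorem card_le_of_cyclic_exp {C : Type*} [Group C] [Finite C] [IsCyclic C] {p : ℕ} (hp : 0 < p)
    (h : ∀ c : C, c ^ p = 1) : Nat.card C ≤ p := by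
  obtain ⟨g, hg⟩ := IsCyclic.exists_generator (α := C)
  rw [← orderOf_eq_card_of_forall_mem_zpowers hg]
  exact Nat.le_of_dvd hp (orderOf_dvd_of_pow_eq_one (h g))

/-- `Ω₁` of a `p`-group of rank at most two, `p > 3`: a subgroup of exponent `p` and order at
most `p³`. -/
theorem exists_omega {R : Type*} [Group R] [Finite R] {p : ℕ} [hp : Fact p.Prime] (hp3 : 3 < p)
    (hR : IsPGroup p R)
    (hrk : ∀ E : Subgroup R, Cfsg.IsElementaryAbelian p E → Nat.card E ≤ p ^ 2) :
    ∃ E : Subgroup R, (∀ x, x ∈ E ↔ x ^ p = 1) ∧ Nat.card E ≤ p ^ 3 := by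
  have hpp := hp.out
  obtain ⟨E, hE⟩ : ∃ E : Subgroup R, E = Subgroup.closure {x : R | x ^ p = 1} := ⟨_, rfl⟩
  have hmem : ∀ x, x ∈ E ↔ x ^ p = 1 := by
    intro x
    constructor
    · intro hx
      exact Cfsg.Agent.S0128.result hp3 hR hrk x (hE ▸ hx)
    · intro hx
      rw [hE]
      exact Subgroup.subset_closure hx
  refine ⟨E, hmem, ?_⟩
  have hexp : ∀ x : E, x ^ p = 1 := fun x => Subtype.ext ((hmem x).mp x.2)
  obtain ⟨n, hn⟩ := IsPGroup.iff_card.mp (hR.to_subgroup E)
  have hrk2 : Cfsg.PRankLE p 2 R := fun A h1 h2 => hrk A ⟨h1, h2⟩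
  rcases Cfsg.Agent.Lib.Helper59.Rk2.rank2_order (by omega) n hn
    (Cfsg.Agent.Lib.Helper59.Rk2.prankLE_sub hrk2 E) with h | h | h
  · obtain ⟨N, hN, hNc, hQc⟩ := h
    have h1 : Nat.card N ≤ p := card_le_of_cyclic_exp hpp.pos (fun c => Subtype.ext (by
      rw [Subgroup.coe_pow, hexp]; rfl))
    have h2 : Nat.card (↥E ⧸ N) ≤ p := card_le_of_cyclic_exp hpp.pos (fun c => by
      induction c using QuotientGroup.induction_on with
      | H x => rw [← QuotientGroup.mk_pow, hexp]; rfl)
    have h3 := Subgroup.card_eq_card_quotient_mul_card_subgroup N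
    rw [h3]
    calc Nat.card (↥E ⧸ N) * Nat.card N ≤ p * p := Nat.mul_le_mul h2 h1
      _ ≤ p ^ 3 := by nlinarith [hpp.one_lt]
  · obtain ⟨h3, z, hz⟩ := h
    have h1 : p ^ (n - 2) ∣ p := hz ▸ orderOf_dvd_of_pow_eq_one (hexp z)
    have h2 : n - 2 ≤ 1 := by
      by_contra hcon
      have h4 : p ^ 2 ∣ p ^ (n - 2) := pow_dvd_pow p (by omega)
      have h5 := Nat.le_of_dvd hpp.pos (h4.trans h1)
      nlinarith [hpp.one_lt]
    rw [hn]
    exact Nat.pow_le_pow_right hpp.pos (by omega)
  · omega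

end Cfsg.Agent.Lib.Helper59.RkF
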