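import Mathlib
import Cfsg.Agent.Lib.Helper59.RkFA
import Cfsg.Agent.Lib.Helper59.RkFB
import Cfsg.Agent.Lib.Helper59.RkFC

set_option autoImplicit false

namespace Cfsg.Agent.Lib.Helper59.RkF

/-- membership in the image Sylow subgroup -/
theorem mem_mapSylow_iff {G G' : Type*} [Group G] [Finite G] [Group G'] {p : ℕ} [Fact p.Prime]
    (f : G →* G') (T : Sylow p G) (q : f.range) :
    q ∈ (T.mapSurjective f.rangeRestrict_surjective : Sylow p f.range) ↔
      ∃ t : G, t ∈ T ∧ f t = (q : G') := by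
  change q ∈ (T : Subgroup G).map f.rangeRestrict ↔ _
  rw [Subgroup.mem_map]
  constructor
  · rintro ⟨t, ht, rfl⟩
    exact ⟨t, ht, rfl⟩
  · rintro ⟨t, ht, h⟩
    exact ⟨t, ht, Subtype.ext h⟩

/-- an element whose image normalizes the image of the Sylow subgroup normalizes it -/
theorem sylow_map_conj {G G' : Type*} [Group G] [Finite G] [Group G'] {p : ℕ} [Fact p.Prime]
    (f : G →* G') (hker : IsPGroup p f.ker) (T : Sylow p G) (d : G)
    (hd : ∀ q : f.range, q ∈ (T.mapSurjective f.rangeRestrict_surjective : Sylow p f.range) →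
      f.rangeRestrict d * q * (f.rangeRestrict d)⁻¹ ∈
        (T.mapSurjective f.rangeRestrict_surjective : Sylow p f.range)) :
    ∀ t : G, t ∈ T → d * t * d⁻¹ ∈ T := by
  intro t ht
  have h1 := hd (f.rangeRestrict t) ((mem_mapSylow_iff f T _).mpr ⟨t, ht, rfl⟩)
  obtain ⟨t', ht', h2⟩ := (mem_mapSylow_iff f T _).mp h1
  have h3 : f t' = f (d * t * d⁻¹) := by
    rw [h2]
    simp [MonoidHom.coe_rangeRestrict]
  have h4 : t'⁻¹ * (d * t * d⁻¹) ∈ f.ker := by
    rw [MonoidHom.mem_ker, map_mul, map_inv, h3, inv_mul_cancel]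
  have h5 : f.ker ≤ (T : Subgroup G) := IsPGroup.le_sylow_of_normal hker T
  have h6 := Subgroup.mul_mem _ ht' (h5 h4)
  rw [mul_inv_cancel_left] at h6
  exact h6

/-- a nontrivial element of a finite `p`-group has a power of order `p` -/
theorem exists_pow_order_p {G : Type*} [Group G] [Finite G] {p : ℕ} [hp : Fact p.Prime]
    (hG : IsPGroup p G) {x : G} (hx : x ≠ 1) :
    ∃ m : ℕ, x ^ p ^ m ≠ 1 ∧ (x ^ p ^ m) ^ p = 1 := by
  obtain ⟨k, hk⟩ := (IsPGroup.iff_orderOf.mp hG) x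
  have hk0 : k ≠ 0 := by
    rintro rfl
    rw [pow_zero, orderOf_eq_one_iff] at hk
    exact hx hk
  refine ⟨k - 1, ?_, ?_⟩
  · intro h
    have h1 := orderOf_dvd_of_pow_eq_one h
    rw [hk] at h1
    have h2 := Nat.le_of_dvd (pow_pos hp.out.pos _) h1
    have h3 : p ^ (k - 1) < p ^ k := Nat.pow_lt_pow_right hp.out.one_lt (by omega)
    omega
  · rw [← pow_mul, ← pow_succ, Nat.sub_add_cancel (by omega), ← hk, pow_orderOf_eq_one]

/-- an automorphism inverting `Ω₁` can be replaced by an involutory one -/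
theorem exists_invol {G : Type*} [Group G] [Finite G] {p : ℕ} [hp : Fact p.Prime] (hp2 : p ≠ 2)
    (hG : IsPGroup p G) (A : Subgroup (MulAut G)) (V : Subgroup G) (hV : ∀ x, x ∈ V ↔ x ^ p = 1)
    (hinv : ∀ α ∈ A, ∀ x ∈ V, α x ∈ V) (ι₀ : MulAut G) (hι₀A : ι₀ ∈ A)
    (hι₀ : ∀ v ∈ V, ι₀ v = v⁻¹) :
    ∃ ι ∈ A, (∀ x, ι (ι x) = x) ∧ ∀ v ∈ V, ι v = v⁻¹ := by
  have hsq : ∀ v ∈ V, (ι₀ * ι₀) v = v := by
    intro v hv
    rw [MulAut.mul_apply, hι₀ v hv, map_inv, hι₀ v hv, inv_inv]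
  have hmem : (⟨ι₀ * ι₀, A.mul_mem hι₀A hι₀A⟩ : A) ∈ (resAut A V hinv).ker := by
    rw [MonoidHom.mem_ker]
    ext v
    exact hsq v v.2
  obtain ⟨k, hk⟩ := isPGroup_ker_resAut hp2 hG A V hV hinv ⟨_, hmem⟩
  have hk' : (ι₀ * ι₀) ^ p ^ k = 1 := by
    have h1 := congrArg (fun x : (resAut A V hinv).ker => ((x : A) : MulAut G)) hk
    exact h1
  refine ⟨ι₀ ^ p ^ k, A.pow_mem hι₀A _, ?_, ?_⟩
  · intro x
    have h1 : ι₀ ^ p ^ k * ι₀ ^ p ^ k = 1 := by
      rw [← (Commute.refl ι₀).mul_pow, hk']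
    have h2 := congrArg (fun γ : MulAut G => γ x) h1
    exact h2
  · intro v hv
    have hodd : Odd (p ^ k) := (hp.out.odd_of_ne_two hp2).pow
    obtain ⟨m, hm⟩ := hodd
    have h1 : ι₀ ^ p ^ k = (ι₀ * ι₀) ^ m * ι₀ := by
      rw [hm, pow_succ, pow_mul, pow_two]
    rw [h1, MulAut.mul_apply, hι₀ v hv]
    exact aut_pow_fix (ι₀ * ι₀) (hsq v⁻¹ (V.inv_mem hv)) m

/-- a group with an involutory automorphism inverting `Ω₁` is commutative -/
theorem comm_of_inverting {G : Type*} [Group G] [Finite G] {p : ℕ} [hp : Fact p.Prime]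
    (hp2 : p ≠ 2) (hG : IsPGroup p G) (ι : MulAut G) (hι2 : ∀ x, ι (ι x) = x)
    (hιV : ∀ v : G, v ^ p = 1 → ι v = v⁻¹) : ∀ x y : G, x * y = y * x := by
  apply fpf_invol_comm ι hι2
  intro x hx
  by_contra hx1
  obtain ⟨m, hm1, hmp⟩ := exists_pow_order_p hG hx1
  have h1 : ι (x ^ p ^ m) = x ^ p ^ m := by rw [map_pow, hx]
  have h2 := hιV _ hmp
  rw [h1] at h2
  have h3 : (x ^ p ^ m) ^ 2 = 1 := by
    rw [pow_two]
    nth_rewrite 1 [h2]
    exact inv_mul_cancel _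
  have h4 : orderOf (x ^ p ^ m) = p := orderOf_eq_prime hmp hm1
  have h5 := orderOf_dvd_of_pow_eq_one h3
  rw [h4] at h5
  have h6 := Nat.le_of_dvd (by norm_num) h5
  have h7 := hp.out.two_le
  omega

/-- a commutative `p`-group (`p ≥ 5`) whose automorphism group acts irreducibly on `Ω₁` and
contains an element of order `p` acting nontrivially and quadratically on `Ω₁` has exponent `p` -/
theorem exp_p_of_irred {G : Type*} [Group G] [Finite G] {p : ℕ} [hp : Fact p.Prime] (hp5 : 5 ≤ p)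
    (hG : IsPGroup p G) (hcomm : ∀ x y : G, x * y = y * x) (V : Subgroup G)
    (hV : ∀ x, x ∈ V ↔ x ^ p = 1) (A : Subgroup (MulAut G))
    (hirr : ∀ B : Subgroup G, B ≤ V → (∀ α ∈ A, ∀ x ∈ B, α x ∈ B) → B = ⊥ ∨ B = V)
    (c : MulAut G) (hcp : c ^ p = 1) (hcV : ∀ v ∈ V, c (c v * v⁻¹) = c v * v⁻¹)
    (hc1 : ∃ v ∈ V, c v ≠ v) : ∀ x : G, x ^ p = 1 := by
  by_contra hcon
  push Not at hcon
  obtain ⟨x₀, hx₀⟩ := hcon
  have hC : ∀ x y : G, Commute x y := hcomm
  obtain ⟨B, hB⟩ : ∃ B : Subgroup G, ∀ v, v ∈ B ↔ v ∈ V ∧ ∃ u : G, u ^ p = v :=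
    ⟨{ carrier := {v | v ∈ V ∧ ∃ u : G, u ^ p = v}
       one_mem' := ⟨V.one_mem, 1, one_pow p⟩
       mul_mem' := by
        rintro a b ⟨ha, u, rfl⟩ ⟨hb, u', rfl⟩
        exact ⟨V.mul_mem ha hb, u * u', (hC u u').mul_pow p⟩
       inv_mem' := by
        rintro a ⟨ha, u, rfl⟩
        exact ⟨V.inv_mem ha, u⁻¹, inv_pow u p⟩ }, fun v => Iff.rfl⟩
  have hBV : B ≤ V := fun v hv => ((hB v).mp hv).1
  have hBinv : ∀ α ∈ A, ∀ x ∈ B, α x ∈ B := by
    intro α _ x hx
    obtain ⟨hxV, u, rfl⟩ := (hB x).mp hx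
    refine (hB _).mpr ⟨?_, α u, (map_pow α u p).symm⟩
    rw [hV, ← map_pow, (hV _).mp hxV, map_one]
  have hBne : B ≠ ⊥ := by
    obtain ⟨k, hk⟩ := (IsPGroup.iff_orderOf.mp hG) x₀
    have hk2 : 2 ≤ k := by
      by_contra hlt
      apply hx₀
      have h1 : orderOf x₀ ∣ p := by
        rw [hk]
        have : k ≤ 1 := by omega
        exact pow_dvd_pow p this |>.trans (by rw [pow_one])
      exact orderOf_dvd_iff_pow_eq_one.mp h1
    intro h0
    have hy : (x₀ ^ p ^ (k - 2)) ^ p ∈ B := by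
      refine (hB _).mpr ⟨?_, _, rfl⟩
      have e : ((x₀ ^ p ^ (k - 2)) ^ p) ^ p = x₀ ^ p ^ k := by
        rw [← pow_mul, ← pow_mul, ← pow_two, ← pow_add]
        congr 2
        omega
      rw [hV, e, ← hk, pow_orderOf_eq_one]
    rw [h0, Subgroup.mem_bot, ← pow_mul, ← pow_succ] at hy
    have h1 := orderOf_dvd_of_pow_eq_one hy
    rw [hk] at h1
    have h2 := Nat.le_of_dvd (pow_pos hp.out.pos _) h1
    have h3 : p ^ (k - 2 + 1) < p ^ k := Nat.pow_lt_pow_right hp.out.one_lt (by omega)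
    omega
  have hBtop : B = V := (hirr B hBV hBinv).resolve_left hBne
  letI instC : CommGroup G := { (inferInstance : Group G) with mul_comm := hcomm }
  have key := @cp2_obstruction G instC p hp hp5 c.toMonoidHom
    (by
      intro u
      have h1 : ∀ n : ℕ, (⇑c.toMonoidHom)^[n] u = (c ^ n) u := by
        intro n
        induction n with
        | zero => rfl
        | succ n ih =>
          rw [Function.iterate_succ_apply', ih, pow_succ', MulAut.mul_apply]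
          rfl
      rw [h1 p, hcp]
      rfl)
    (by
      intro v hv
      exact hcV v ((hV v).mpr hv))
    (by
      intro v hv
      have h1 : v ∈ B := hBtop ▸ (hV v).mpr hv
      exact ((hB v).mp h1).2)
  obtain ⟨v, hv, hcv⟩ := hc1
  exact hcv (key v ((hV v).mp hv))

end Cfsg.Agent.Lib.Helper59.RkF
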