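import Mathlib
import Cfsg.Agent.Lib.Helper59.RkFD
import Cfsg.Agent.Lib.Helper13.Rk2Aut
import Cfsg.Agent.Lib.Helper90.Radical
import Cfsg.Agent.Lib.Helper90.CR
import Cfsg.Agent.Lib.Helper87.Fusion3

set_option autoImplicit false

namespace Cfsg.Agent.Lib.Helper59.RkF

open Cfsg Cfsg.FusionSystem Cfsg.Agent.Lib.Helper90

variable {Ω : Type*} [Group Ω] {S : Subgroup Ω} {F : FusionSystem S}

theorem mor_pow_one {R : Subgroup Ω} {f : Ω → Ω} (hf : Mor F R f) {x : Ω} (hx : x ∈ R) {n : ℕ}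
    (hxn : x ^ n = 1) : f x ^ n = 1 := by
  obtain ⟨φ, -, hφ⟩ := hf
  rw [← hφ ⟨x, hx⟩, ← map_pow]
  have : (⟨x, hx⟩ : R) ^ n = 1 := Subtype.ext (by rw [Subgroup.coe_pow]; exact hxn)
  rw [this, map_one]

theorem omega_conj_mem {p : ℕ} {E : Subgroup Ω} (hE : ∀ x, x ∈ E ↔ x ∈ S ∧ x ^ p = 1) {a x : Ω}
    (ha : a ∈ S) (hx : x ∈ E) : a * x * a⁻¹ ∈ E := by
  obtain ⟨hxS, hxp⟩ := (hE x).mp hx
  refine (hE _).mpr ⟨S.mul_mem (S.mul_mem ha hxS) (S.inv_mem ha), ?_⟩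
  rw [conj_pow, hxp, mul_one, mul_inv_cancel]

theorem mor_omega {p : ℕ} {E : Subgroup Ω} (hE : ∀ x, x ∈ E ↔ x ∈ S ∧ x ^ p = 1)
    {R : Subgroup Ω} {f : Ω → Ω} (hf : Mor F R f) {x : Ω} (hx : x ∈ R) (hxE : x ∈ E) :
    f x ∈ E :=
  (hE _).mpr ⟨hf.mem hx, mor_pow_one hf hx ((hE x).mp hxE).2⟩

/-- the final step: an automorphism of `Ω₁(S)` normalizing `Aut_S` extends to `S`, and the
eigenvalue lemma applies -/
theorem final_step [Finite S] {p : ℕ} [Fact p.Prime] (hp2 : p ≠ 2) (hS : IsPGroup p S)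
    (hrank3 : ∀ E : Subgroup Ω, E ≤ S → Cfsg.IsElementaryAbelian p E → Nat.card E ≤ p ^ 2)
    {E : Subgroup Ω} (hE : ∀ x, x ∈ E ↔ x ∈ S ∧ x ^ p = 1) (hEcard : Nat.card E = p ^ 3)
    (hrec : F.IsReceptive E) {g : Ω → Ω} (hg : Mor F E g)
    (hN : ∀ a ∈ S, ∃ b ∈ S, ∀ x ∈ E, g (a * x * a⁻¹) = b * g x * b⁻¹)
    {e w : Ω} (he : e ∈ E) (hw : w ∈ E) (hwc : ∀ x ∈ E, x * w = w * x) (b : ℕ)
    (hge : g e = e ^ b * w) {s : Ω} (hsS : s ∈ S)
    (hs : ∀ (i : ℕ) (v : Ω), v ∈ E → (∀ x ∈ E, x * v = v * x) → s * e * s⁻¹ ≠ e ^ i * v) :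
    b ^ 2 ≡ 1 [MOD p] := by
  have hES : E ≤ S := fun x hx => ((hE x).mp hx).1
  haveI : Finite E := finite_of_le hES
  have hgE : ∀ x ∈ E, g x ∈ E := fun x hx => mor_omega hE hg hx hx
  have himg : img E g = E := hg.img_eq_self hgE
  obtain ⟨σ, hσ, hσE⟩ := receptive_extend hrec hg himg S hES (fun a ha =>
    ⟨ha, mem_normalizer_of_finite (fun x hx => omega_conj_mem hE ha hx), hN a ha⟩)
  have hσS : ∀ x ∈ S, σ x ∈ S := fun x hx => hσ.mem hx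
  obtain ⟨α, -, hα⟩ := exists_aut_of_mor hσ hσS
  have hE' : ∀ x : ↥S, x ∈ E.subgroupOf S ↔ x ^ p = 1 := by
    intro x
    rw [Subgroup.mem_subgroupOf, hE, Subtype.ext_iff, Subgroup.coe_pow]
    exact ⟨fun h => h.2, fun h => ⟨x.2, h⟩⟩
  have hcard' : Nat.card (E.subgroupOf S) = p ^ 3 := by
    rw [← hEcard]
    exact Nat.card_congr (Subgroup.subgroupOfEquivOfLe hES).toEquiv
  have hrk : ∀ A : Subgroup ↥S, (∀ a ∈ A, ∀ b ∈ A, a * b = b * a) → (∀ a ∈ A, a ^ p = 1) →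
      Nat.card A ≤ p ^ 2 := by
    intro A hAc hAp
    have h1 : Nat.card (A.map S.subtype) = Nat.card A :=
      Subgroup.card_map_of_injective (Subgroup.subtype_injective S)
    rw [← h1]
    apply hrank3 _ (Subgroup.map_subtype_le A)
    refine ⟨⟨⟨?_⟩⟩, ?_⟩
    · rintro ⟨_, a, ha, rfl⟩ ⟨_, b, hb, rfl⟩
      apply Subtype.ext
      show S.subtype a * S.subtype b = S.subtype b * S.subtype a
      rw [← map_mul, ← map_mul, hAc a ha b hb]
    · rintro _ ⟨a, ha, rfl⟩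
      rw [← map_pow, hAp a ha, map_one]
  refine Cfsg.Agent.Lib.Helper13.rk2_aut_eigen hp2 hS (E.subgroupOf S) hE' hcard' hrk α
    ⟨e, hES he⟩ ⟨w, hES hw⟩ (Subgroup.mem_subgroupOf.mpr he) (Subgroup.mem_subgroupOf.mpr hw)
    ?_ b ?_ ⟨s, hsS⟩ ?_
  · intro x hx
    apply Subtype.ext
    exact hwc x (Subgroup.mem_subgroupOf.mp hx)
  · apply Subtype.ext
    rw [hα]
    show σ e = _
    rw [hσE e he, hge]
    rfl
  · intro i v hv hvc heq
    apply hs i (v : Ω) (Subgroup.mem_subgroupOf.mp hv)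
    · intro x hx
      have := hvc ⟨x, hES hx⟩ (Subgroup.mem_subgroupOf.mpr hx)
      exact congrArg Subtype.val this
    · exact congrArg Subtype.val heq

theorem half_sq_ne {p : ℕ} (hp : p.Prime) (h5 : 5 ≤ p) : ¬ ((p + 1) / 2) ^ 2 ≡ 1 [MOD p] := by
  intro h
  obtain ⟨j, hj⟩ : ∃ j : ℕ, p = 2 * j + 1 := by
    rcases hp.eq_two_or_odd with h2 | h2
    · omega
    · exact ⟨p / 2, by omega⟩
  have hb : (p + 1) / 2 = j + 1 := by omega
  rw [hb] at h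
  have h1 : 4 * (j + 1) ^ 2 ≡ 4 * 1 [MOD p] := h.mul_left 4
  have h2 : 4 * (j + 1) ^ 2 = p * (p + 2) + 1 := by
    rw [hj]; ring
  rw [h2] at h1
  have h3 : p * (p + 2) + 1 ≡ 1 [MOD p] := by
    unfold Nat.ModEq
    rw [Nat.mul_add_mod]
  have h5' : 1 ≡ 4 [MOD p] := h3.symm.trans h1
  have h6 : p ∣ 4 - 1 := (Nat.modEq_iff_dvd' (by norm_num)).mp h5'
  have h7 := Nat.le_of_dvd (by norm_num) h6
  omega

/-- elements of `S` normalizing `P` give elements of the Sylow subgroup `Aut_S(P)` -/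
theorem exists_conj_mem_sylow [Finite S] {p : ℕ} [Fact p.Prime] {P : Subgroup Ω} (hP : P ≤ S)
    (T : Sylow p (F.autGroup P))
    (hT : (T : Subgroup (F.autGroup P)) = (autInducedBy S P).subgroupOf (F.autGroup P))
    {a : Ω} (ha : a ∈ S) (haN : ∀ x ∈ P, a * x * a⁻¹ ∈ P) :
    ∃ t : F.autGroup P, t ∈ T ∧ ∀ x : P, (((t : MulAut P) x : P) : Ω) = a * x * a⁻¹ := by
  haveI : Finite P := finite_of_le hP
  obtain ⟨β, hβA, hβ⟩ := exists_aut_of_mor (mor_conj F hP ha) haN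
  refine ⟨⟨β, hβA⟩, ?_, hβ⟩
  change (⟨β, hβA⟩ : F.autGroup P) ∈ (T : Subgroup (F.autGroup P))
  rw [hT, Subgroup.mem_subgroupOf]
  exact (mem_autInducedBy_iff S P β).mpr ⟨a, ha, hβ⟩

theorem exists_conj_of_mem_sylow {p : ℕ} [Fact p.Prime] {P : Subgroup Ω}
    (T : Sylow p (F.autGroup P))
    (hT : (T : Subgroup (F.autGroup P)) = (autInducedBy S P).subgroupOf (F.autGroup P))
    {t : F.autGroup P} (ht : t ∈ T) :
    ∃ a ∈ S, ∀ x : P, (((t : MulAut P) x : P) : Ω) = a * x * a⁻¹ := by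
  have h1 : t ∈ (T : Subgroup (F.autGroup P)) := ht
  rw [hT, Subgroup.mem_subgroupOf] at h1
  exact (mem_autInducedBy_iff S P _).mp h1

/-- `Ω₁(S)` of order `p³`: `Aut_S(Ω₁(S))` is normal in `Aut_F(Ω₁(S))`. -/
theorem prop_E [Finite S] {p : ℕ} [hp : Fact p.Prime] (hp5 : 5 ≤ p) (hS : IsPGroup p S)
    (hF : F.IsSaturated p)
    (hrank3 : ∀ E : Subgroup Ω, E ≤ S → Cfsg.IsElementaryAbelian p E → Nat.card E ≤ p ^ 2)
    {E : Subgroup Ω} (hE : ∀ x, x ∈ E ↔ x ∈ S ∧ x ^ p = 1) (hEcard : Nat.card E = p ^ 3)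
    (hnn : ∃ γ ∈ F.autGroup E, ∃ τ ∈ autInducedBy S E, γ * τ * γ⁻¹ ∉ autInducedBy S E) :
    False := by
  have hpp := hp.out
  have hp2 : p ≠ 2 := by omega
  have hES : E ≤ S := fun x hx => ((hE x).mp hx).1
  haveI : Finite E := finite_of_le hES
  have hnormE : S ≤ Subgroup.normalizer (E : Set Ω) := fun a ha =>
    mem_normalizer_of_finite (fun x hx => omega_conj_mem hE ha hx)
  have hfn : F.IsFullyNormalized E := by
    refine ⟨hES, fun Q _ => ?_⟩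
    have h1 : normalizerIn S E = S := le_antisymm inf_le_left (le_inf le_rfl hnormE)
    rw [h1]
    exact Subgroup.card_le_of_le inf_le_left
  obtain ⟨-, hfa, hrec⟩ := Cfsg.Agent.Lib.Helper87.saturated_fullyNormalized p hS F hF hfn
  obtain ⟨-, T, hT⟩ := hfa
  have hTn : ¬ (T : Subgroup (F.autGroup E)).Normal := by
    intro hn
    obtain ⟨γ, hγ, τ, hτ, hnot⟩ := hnn
    apply hnot
    have h1 := hn.conj_mem ⟨τ, autInducedBy_le_autGroup F hES hτ⟩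
      (by rw [hT]; exact Subgroup.mem_subgroupOf.mpr hτ) ⟨γ, hγ⟩
    rw [hT] at h1
    exact Subgroup.mem_subgroupOf.mp h1
  have hnc : ¬ ∀ a b : ↥E, a * b = b * a := by
    intro hc
    have h1 := hrank3 E hES ⟨⟨⟨hc⟩⟩, fun a ha => ((hE a).mp ha).2⟩
    rw [hEcard] at h1
    have h2 : p ^ 2 < p ^ 3 := Nat.pow_lt_pow_right hpp.one_lt (by norm_num)
    omega
  have hinv : ∀ α ∈ F.autGroup E, ∀ x ∈ Subgroup.center ↥E, α x ∈ Subgroup.center ↥E := by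
    intro α _ x hx
    rw [Subgroup.mem_center_iff]
    intro g
    have h1 := Subgroup.mem_center_iff.mp hx (α.symm g)
    have h2 := congrArg α h1
    rw [map_mul, map_mul, MulEquiv.apply_symm_apply] at h2
    exact h2
  haveI : Finite (MulAut ↥E) := finite_mulAut ↥E
  obtain ⟨f, hf⟩ : ∃ f : F.autGroup E →* MulAut (↥E ⧸ Subgroup.center ↥E),
      f = quotAut (F.autGroup E) (Subgroup.center ↥E) hinv := ⟨_, rfl⟩
  have hfmk : ∀ (α : F.autGroup E) (x : ↥E), f α (QuotientGroup.mk x) =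
      QuotientGroup.mk ((α : MulAut ↥E) x) := by
    intro α x
    rw [hf]
    rfl
  have hker : IsPGroup p f.ker := by
    rw [hf]
    exact isPGroup_ker_quotAut hEcard hnc _ hinv
  have hQ := sylow_map_not_normal f hker T hTn
  have hHcard := card_quot_center_of_cube hEcard hnc
  have hHcomm : ∀ a b : ↥E ⧸ Subgroup.center ↥E, a * b = b * a :=
    isMulCommutative_iff.mp (IsPGroup.isMulCommutative_of_card_eq_prime_sq hHcard)
  obtain ⟨hexp, e₁, e₂, he₁, he₂, hind, hgen, hQs, ⟨τ₁, hτ₁Q, hτ₁⟩, ⟨δ', hδ1, hδ2, hδn⟩, -, -⟩ :=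
    torus_exists hp5 hHcard f.range _ hQ
  obtain ⟨δ, hδ⟩ := δ'.2
  obtain ⟨l₁, rfl⟩ := QuotientGroup.mk_surjective e₁
  obtain ⟨e, rfl⟩ := QuotientGroup.mk_surjective e₂
  have hδT : ∀ t : F.autGroup E, t ∈ T → δ * t * δ⁻¹ ∈ T := by
    apply sylow_map_conj f hker T δ
    intro q hq
    have e1 : f.rangeRestrict δ = δ' := Subtype.ext hδ
    rw [e1]
    exact hδn q hq
  obtain ⟨g, hgdef⟩ : ∃ g : Ω → Ω, g = autFun E (δ : MulAut E) := ⟨_, rfl⟩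
  have hg : Mor F E g := hgdef ▸ (mem_autGroup_iff F hES (δ : MulAut E)).mp δ.2
  have hgx : ∀ x (hx : x ∈ E), g x = ((δ : MulAut E) ⟨x, hx⟩ : Ω) := by
    intro x hx
    rw [hgdef, autFun_apply' _ hx]
  have hN : ∀ a ∈ S, ∃ b ∈ S, ∀ x ∈ E, g (a * x * a⁻¹) = b * g x * b⁻¹ := by
    intro a ha
    obtain ⟨t, htT, ht⟩ := exists_conj_mem_sylow hES T hT ha (fun x hx => omega_conj_mem hE ha hx)
    obtain ⟨b, hb, hbx⟩ := exists_conj_of_mem_sylow T hT (hδT t htT)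
    refine ⟨b, hb, fun x hx => ?_⟩
    have h1 := hbx ((δ : MulAut E) ⟨x, hx⟩)
    have h2 : ((δ * t * δ⁻¹ : F.autGroup E) : MulAut E) ((δ : MulAut E) ⟨x, hx⟩) =
        (δ : MulAut E) ((t : MulAut E) ⟨x, hx⟩) := by
      simp
    rw [h2] at h1
    have h3 : (t : MulAut E) ⟨x, hx⟩ = ⟨a * x * a⁻¹, omega_conj_mem hE ha hx⟩ :=
      Subtype.ext (ht ⟨x, hx⟩)
    rw [h3] at h1
    rw [hgx _ (omega_conj_mem hE ha hx), hgx x hx]
    exact h1
  -- the eigenvector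
  obtain ⟨w', hw'⟩ : ∃ w' : ↥E, w' = (e ^ ((p + 1) / 2))⁻¹ * (δ : MulAut E) e := ⟨_, rfl⟩
  have hw'Z : w' ∈ Subgroup.center ↥E := by
    have h1 : f δ (QuotientGroup.mk e) = (QuotientGroup.mk e) ^ ((p + 1) / 2) := by
      rw [hδ]
      exact hδ2
    rw [hfmk, ← QuotientGroup.mk_pow] at h1
    rw [hw']
    exact QuotientGroup.eq.mp h1.symm
  have hge : g (e : Ω) = (e : Ω) ^ ((p + 1) / 2) * (w' : Ω) := by
    rw [hgx _ e.2, hw']
    simp
  have hwc : ∀ x ∈ E, x * (w' : Ω) = (w' : Ω) * x := by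
    intro x hx
    exact congrArg Subtype.val (Subgroup.mem_center_iff.mp hw'Z ⟨x, hx⟩)
  -- the element `s`
  obtain ⟨t₁, ht₁T, ht₁⟩ := (mem_mapSylow_iff f T τ₁).mp hτ₁Q
  obtain ⟨s, hsS, hsx⟩ := exists_conj_of_mem_sylow T hT ht₁T
  have hs : ∀ (i : ℕ) (v : Ω), v ∈ E → (∀ x ∈ E, x * v = v * x) →
      s * (e : Ω) * s⁻¹ ≠ (e : Ω) ^ i * v := by
    intro i v hv hvc heq
    have hvZ : (⟨v, hv⟩ : ↥E) ∈ Subgroup.center ↥E := by
      rw [Subgroup.mem_center_iff]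
      intro x
      exact Subtype.ext (hvc x x.2)
    have h1 : (t₁ : MulAut E) e = e ^ i * ⟨v, hv⟩ := by
      apply Subtype.ext
      rw [hsx e, heq]
      rfl
    have h2 : f t₁ (QuotientGroup.mk e) = QuotientGroup.mk e * QuotientGroup.mk l₁ := by
      rw [ht₁]
      exact hτ₁
    rw [hfmk, h1, QuotientGroup.mk_mul, QuotientGroup.mk_pow,
      (QuotientGroup.eq_one_iff _).mpr hvZ, mul_one] at h2
    have h3 : (QuotientGroup.mk l₁ : ↥E ⧸ Subgroup.center ↥E) ^ 1 =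
        (QuotientGroup.mk e) ^ (i + (p - 1)) := by
      rw [pow_one, pow_add, h2, hHcomm (QuotientGroup.mk e), mul_assoc, ← pow_succ',
        Nat.sub_add_cancel hpp.one_lt.le, hexp, mul_one]
    have h4 := hind 1 (i + (p - 1)) h3
    rw [pow_one] at h4
    exact he₁ h4
  exact half_sq_ne hpp hp5
    (final_step hp2 hS hrank3 hE hEcard hrec hg hN e.2 w'.2 hwc ((p + 1) / 2) hge hsS hs)

end Cfsg.Agent.Lib.Helper59.RkF
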