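import Mathlib
import Cfsg.Agent.Lib.Helper59.RkFE

set_option autoImplicit false

namespace Cfsg.Agent.Lib.Helper59.RkF

open Cfsg Cfsg.FusionSystem Cfsg.Agent.Lib.Helper90

variable {Ω : Type*} [Group Ω] {S : Subgroup Ω} {F : FusionSystem S}

theorem omega_subgroupOf_mem {p : ℕ} {E P : Subgroup Ω} (hE : ∀ x, x ∈ E ↔ x ∈ S ∧ x ^ p = 1)
    (hP : P ≤ S) (x : ↥P) : x ∈ E.subgroupOf P ↔ x ^ p = 1 := by
  rw [Subgroup.mem_subgroupOf, hE, Subtype.ext_iff, Subgroup.coe_pow]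
  exact ⟨fun h => h.2, fun h => ⟨hP x.2, h⟩⟩

theorem omega_aut_inv {p : ℕ} {E P : Subgroup Ω} (hE : ∀ x, x ∈ E ↔ x ∈ S ∧ x ^ p = 1)
    (hP : P ≤ S) (A : Subgroup (MulAut ↥P)) :
    ∀ α ∈ A, ∀ x ∈ E.subgroupOf P, α x ∈ E.subgroupOf P := by
  intro α _ x hx
  rw [omega_subgroupOf_mem hE hP] at hx ⊢
  rw [← map_pow, hx, map_one]

/-- the case `|Ω₁(P)| ≤ p` -/
theorem case_small [Finite S] {p : ℕ} [hp : Fact p.Prime] (hp2 : p ≠ 2) (hS : IsPGroup p S)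
    {E : Subgroup Ω} (hE : ∀ x, x ∈ E ↔ x ∈ S ∧ x ^ p = 1)
    {P : Subgroup Ω} (hP : P ≤ S) (T : Sylow p (F.autGroup P))
    (hTn : ¬ (T : Subgroup (F.autGroup P)).Normal)
    (hc : Nat.card (E.subgroupOf P) = 1 ∨ Nat.card (E.subgroupOf P) = p) : False := by
  haveI : Finite P := finite_of_le hP
  have hPp : IsPGroup p ↥P := hS.to_le hP
  haveI : Finite (MulAut ↥P) := finite_mulAut ↥P
  have hinv := omega_aut_inv hE hP (F.autGroup P)
  have hker := isPGroup_ker_resAut hp2 hPp (F.autGroup P) (E.subgroupOf P)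
    (omega_subgroupOf_mem hE hP) hinv
  have hQ := sylow_map_not_normal _ hker T hTn
  apply hQ
  haveI : IsCyclic ↥(E.subgroupOf P) := by
    rcases hc with h | h
    · haveI : Subsingleton ↥(E.subgroupOf P) := (Nat.card_eq_one_iff_unique.mp h).1
      exact isCyclic_of_subsingleton
    · exact isCyclic_of_prime_card h
  constructor
  intro n hn g
  have h1 : g * n * g⁻¹ = n := by
    have h2 : g * n = n * g := Subtype.ext (mulAut_comm_of_isCyclic _ _)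
    rw [h2, mul_inv_cancel_right]
  rw [h1]
  exact hn

/-- the case `Ω₁(S) ≤ P`: reduction to `Ω₁(S)` -/
theorem case_three [Finite S] {p : ℕ} [hp : Fact p.Prime] (hp2 : p ≠ 2) (hS : IsPGroup p S)
    {E : Subgroup Ω} (hE : ∀ x, x ∈ E ↔ x ∈ S ∧ x ^ p = 1)
    {P : Subgroup Ω} (hP : P ≤ S) (T : Sylow p (F.autGroup P))
    (hT : (T : Subgroup (F.autGroup P)) = (autInducedBy S P).subgroupOf (F.autGroup P))
    (hTn : ¬ (T : Subgroup (F.autGroup P)).Normal) (hEP : E ≤ P) :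
    ∃ γ ∈ F.autGroup E, ∃ τ ∈ autInducedBy S E, γ * τ * γ⁻¹ ∉ autInducedBy S E := by
  by_contra hcon
  push Not at hcon
  apply hTn
  have hES : E ≤ S := hEP.trans hP
  haveI : Finite P := finite_of_le hP
  haveI : Finite E := finite_of_le hES
  have hPp : IsPGroup p ↥P := hS.to_le hP
  haveI : Finite (MulAut ↥P) := finite_mulAut ↥P
  have hinv := omega_aut_inv hE hP (F.autGroup P)
  have hker := isPGroup_ker_resAut hp2 hPp (F.autGroup P) (E.subgroupOf P)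
    (omega_subgroupOf_mem hE hP) hinv
  -- automorphisms of `P` preserve `E`
  have hαE : ∀ (α : MulAut ↥P) (x : ↥P), (x : Ω) ∈ E → ((α x : ↥P) : Ω) ∈ E := by
    intro α x hx
    exact Subgroup.mem_subgroupOf.mp (omega_aut_inv hE hP ⊤ α (Subgroup.mem_top _) x
      (Subgroup.mem_subgroupOf.mpr hx))
  obtain ⟨B, hB⟩ : ∃ B : Subgroup (MulAut ↥P), ∀ β, β ∈ B ↔ β ∈ F.autGroup P ∧
      ∃ b ∈ S, ∀ x : ↥P, (x : Ω) ∈ E → ((β x : ↥P) : Ω) = b * x * b⁻¹ :=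
    ⟨{ carrier := {β | β ∈ F.autGroup P ∧
          ∃ b ∈ S, ∀ x : ↥P, (x : Ω) ∈ E → ((β x : ↥P) : Ω) = b * x * b⁻¹}
       one_mem' := ⟨Subgroup.one_mem _, 1, S.one_mem, fun x _ => by simp⟩
       mul_mem' := by
        rintro β₁ β₂ ⟨h1, b₁, hb₁, h1'⟩ ⟨h2, b₂, hb₂, h2'⟩
        refine ⟨Subgroup.mul_mem _ h1 h2, b₁ * b₂, S.mul_mem hb₁ hb₂, fun x hx => ?_⟩
        rw [MulAut.mul_apply, h1' _ (hαE β₂ x hx), h2' x hx]
        group
       inv_mem' := by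
        rintro β ⟨h1, b, hb, h1'⟩
        refine ⟨Subgroup.inv_mem _ h1, b⁻¹, S.inv_mem hb, fun x hx => ?_⟩
        have h2 := h1' (β⁻¹ x) (hαE β⁻¹ x hx)
        have h3 : β (β⁻¹ x) = x := by simp
        rw [h3] at h2
        rw [h2]
        group }, fun β => Iff.rfl⟩
  have hBle : B ≤ F.autGroup P := fun β hβ => ((hB β).mp hβ).1
  have hBp : IsPGroup p B := by
    rintro ⟨β, hβ⟩
    obtain ⟨hβA, b, hb, hβb⟩ := (hB β).mp hβ
    obtain ⟨k, hk⟩ := hS ⟨b, hb⟩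
    have hk' : b ^ p ^ k = 1 := congrArg Subtype.val hk
    have hpow : ∀ n : ℕ, ∀ x : ↥P, (x : Ω) ∈ E → (((β ^ n) x : ↥P) : Ω) = b ^ n * x * (b ^ n)⁻¹ := by
      intro n
      induction n with
      | zero => intro x _; simp
      | succ n ih =>
        intro x hx
        rw [pow_succ, MulAut.mul_apply, ih _ (hαE β x hx), hβb x hx, pow_succ]
        group
    have hmem : (⟨β ^ p ^ k, Subgroup.pow_mem _ hβA _⟩ : F.autGroup P) ∈
        (resAut (F.autGroup P) (E.subgroupOf P) hinv).ker := by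
      rw [MonoidHom.mem_ker]
      ext v
      show ((β ^ p ^ k) (v : ↥P) : Ω) = ((v : ↥P) : Ω)
      rw [hpow _ _ (Subgroup.mem_subgroupOf.mp v.2), hk']
      simp
    obtain ⟨j, hj⟩ := hker ⟨_, hmem⟩
    have hj' : (β ^ p ^ k) ^ p ^ j = 1 := by
      have h1 := congrArg (fun x : (resAut (F.autGroup P) (E.subgroupOf P) hinv).ker =>
        ((x : F.autGroup P) : MulAut ↥P)) hj
      exact h1
    refine ⟨k + j, Subtype.ext ?_⟩
    show β ^ p ^ (k + j) = 1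
    rw [pow_add, pow_mul, hj']
  have hBn : ∀ α ∈ F.autGroup P, ∀ β ∈ B, α * β * α⁻¹ ∈ B := by
    intro α hα β hβ
    obtain ⟨hβA, b, hb, hβb⟩ := (hB β).mp hβ
    refine (hB _).mpr ⟨Subgroup.mul_mem _ (Subgroup.mul_mem _ hα hβA) (Subgroup.inv_mem _ hα), ?_⟩
    have hαmor : Mor F E (autFun P α) := ((mem_autGroup_iff F hP α).mp hα).restrict hEP
    have hαEE : ∀ x ∈ E, autFun P α x ∈ E := fun x hx => mor_omega hE hαmor hx hx
    obtain ⟨αE, hαEA, hαEx⟩ := exists_aut_of_mor hαmor hαEE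
    obtain ⟨τ, -, hτx⟩ := exists_aut_of_mor (mor_conj F hES hb)
      (fun x hx => omega_conj_mem hE hb hx)
    have hτmem : τ ∈ autInducedBy S E := (mem_autInducedBy_iff S E τ).mpr ⟨b, hb, hτx⟩
    obtain ⟨b', hb', hb'x⟩ := (mem_autInducedBy_iff S E _).mp (hcon αE hαEA τ hτmem)
    refine ⟨b', hb', fun x hx => ?_⟩
    obtain ⟨y, hy⟩ : ∃ y : ↥P, y = α⁻¹ x := ⟨_, rfl⟩
    have hyE : (y : Ω) ∈ E := hy ▸ hαE α⁻¹ x hx
    have hxy : x = α y := by rw [hy]; simp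
    have h1 : αE ⟨y, hyE⟩ = ⟨x, hx⟩ := by
      apply Subtype.ext
      rw [hαEx, autFun_apply' α y.2]
      show ((α y : ↥P) : Ω) = (x : Ω)
      rw [← hxy]
    have h2 := hb'x ⟨x, hx⟩
    have h3 : (αE * τ * αE⁻¹) ⟨x, hx⟩ = αE (τ ⟨y, hyE⟩) := by
      rw [← h1]
      simp
    rw [h3, hαEx] at h2
    have h4 : ((τ ⟨y, hyE⟩ : ↥E) : Ω) = ((β y : ↥P) : Ω) := by
      rw [hτx, hβb y hyE]
    rw [h4, autFun_apply' α (β y).2] at h2
    rw [MulAut.mul_apply, MulAut.mul_apply, ← hy]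
    exact h2
  have hBS := normal_pSubgroup_le_autInducedBy ⟨hP, T, hT⟩ B hBp hBle hBn
  have hSB : autInducedBy S P ≤ B := by
    intro τ hτ
    obtain ⟨a, ha, hτa⟩ := (mem_autInducedBy_iff S P τ).mp hτ
    exact (hB τ).mpr ⟨autInducedBy_le_autGroup F hP hτ, a, ha, fun x _ => hτa x⟩
  have hBeq : autInducedBy S P = B := le_antisymm hSB hBS
  rw [hT, hBeq]
  constructor
  intro n hn g
  exact Subgroup.mem_subgroupOf.mpr (hBn g g.2 n (Subgroup.mem_subgroupOf.mp hn))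

end Cfsg.Agent.Lib.Helper59.RkF
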