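import Mathlib
import Cfsg.Agent.Lib.Helper59.RkFF

set_option autoImplicit false

namespace Cfsg.Agent.Lib.Helper59.RkF

open Cfsg Cfsg.FusionSystem Cfsg.Agent.Lib.Helper90

variable {Ω : Type*} [Group Ω] {S : Subgroup Ω} {F : FusionSystem S}

theorem omega_receptive [Finite S] {p : ℕ} [hp : Fact p.Prime] (hS : IsPGroup p S)
    (hF : F.IsSaturated p) {E : Subgroup Ω} (hE : ∀ x, x ∈ E ↔ x ∈ S ∧ x ^ p = 1) :
    F.IsReceptive E := by
  have hES : E ≤ S := fun x hx => ((hE x).mp hx).1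
  haveI : Finite E := finite_of_le hES
  have hnormE : S ≤ Subgroup.normalizer (E : Set Ω) := fun a ha =>
    mem_normalizer_of_finite (fun x hx => omega_conj_mem hE ha hx)
  have hfn : F.IsFullyNormalized E := by
    refine ⟨hES, fun Q _ => ?_⟩
    have h1 : normalizerIn S E = S := le_antisymm inf_le_left (le_inf le_rfl hnormE)
    rw [h1]
    exact Subgroup.card_le_of_le inf_le_left
  exact (Cfsg.Agent.Lib.Helper87.saturated_fullyNormalized p hS F hF hfn).2.2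

/-- an element of `Aut_F(P)` normalizing `Aut_S(P)` satisfies the extension condition -/
theorem ext_cond_of_normalizes [Finite S] {p : ℕ} [Fact p.Prime] {P : Subgroup Ω} (hP : P ≤ S)
    (T : Sylow p (F.autGroup P))
    (hT : (T : Subgroup (F.autGroup P)) = (autInducedBy S P).subgroupOf (F.autGroup P))
    (δ : F.autGroup P) (hδT : ∀ t : F.autGroup P, t ∈ T → δ * t * δ⁻¹ ∈ T)
    {a : Ω} (ha : a ∈ S) (haN : ∀ x ∈ P, a * x * a⁻¹ ∈ P) :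
    ∃ b ∈ S, ∀ x ∈ P, autFun P (δ : MulAut ↥P) (a * x * a⁻¹) =
      b * autFun P (δ : MulAut ↥P) x * b⁻¹ := by
  obtain ⟨t, htT, ht⟩ := exists_conj_mem_sylow hP T hT ha haN
  obtain ⟨b, hb, hbx⟩ := exists_conj_of_mem_sylow T hT (hδT t htT)
  refine ⟨b, hb, fun x hx => ?_⟩
  have h1 := hbx ((δ : MulAut ↥P) ⟨x, hx⟩)
  have h2 : ((δ * t * δ⁻¹ : F.autGroup P) : MulAut ↥P) ((δ : MulAut ↥P) ⟨x, hx⟩) =
      (δ : MulAut ↥P) ((t : MulAut ↥P) ⟨x, hx⟩) := by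
    simp
  rw [h2] at h1
  have h3 : (t : MulAut ↥P) ⟨x, hx⟩ = ⟨a * x * a⁻¹, haN x hx⟩ := Subtype.ext (ht ⟨x, hx⟩)
  rw [h3] at h1
  rw [autFun_apply' _ (haN x hx), autFun_apply' _ hx]
  exact h1

theorem conj_pow_tv {G : Type*} [Group G] {a x y : G} (hy : a * y * a⁻¹ = y) {k : ℕ}
    (hx : a * x * a⁻¹ = x * y ^ k) (n : ℕ) : a ^ n * x * (a ^ n)⁻¹ = x * y ^ (k * n) := by
  induction n with
  | zero => simp
  | succ n ih =>
    have h1 : a ^ (n + 1) * x * (a ^ (n + 1))⁻¹ = a * (a ^ n * x * (a ^ n)⁻¹) * a⁻¹ := by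
      rw [pow_succ']; group
    rw [h1, ih, ← conj_mul, ← conj_pow, hx, hy, mul_assoc, ← pow_add]
    congr 2
    ring

/-- the case `|Ω₁(P)| = p²` -/
theorem case_two [Finite S] {p : ℕ} [hp : Fact p.Prime] (hp5 : 5 ≤ p) (hS : IsPGroup p S)
    (hF : F.IsSaturated p)
    (hrank3 : ∀ E : Subgroup Ω, E ≤ S → Cfsg.IsElementaryAbelian p E → Nat.card E ≤ p ^ 2)
    {E : Subgroup Ω} (hE : ∀ x, x ∈ E ↔ x ∈ S ∧ x ^ p = 1) (hEcard : Nat.card E = p ^ 3)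
    (hES' : E ≠ S)
    {P : Subgroup Ω} (hP : P ≤ S) (hrec : F.IsReceptive P) (hcen : centralizerIn S P ≤ P)
    (hrad : F.IsRadical p P) (T : Sylow p (F.autGroup P))
    (hT : (T : Subgroup (F.autGroup P)) = (autInducedBy S P).subgroupOf (F.autGroup P))
    (hTn : ¬ (T : Subgroup (F.autGroup P)).Normal)
    (hc : Nat.card (E.subgroupOf P) = p ^ 2) : False := by
  have hpp := hp.out
  have hp2 : p ≠ 2 := by omega
  have hES : E ≤ S := fun x hx => ((hE x).mp hx).1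
  haveI : Finite P := finite_of_le hP
  haveI : Finite E := finite_of_le hES
  have hPp : IsPGroup p ↥P := hS.to_le hP
  haveI : Finite (MulAut ↥P) := finite_mulAut ↥P
  obtain ⟨V, hVdef⟩ : ∃ V : Subgroup ↥P, V = E.subgroupOf P := ⟨_, rfl⟩
  have hV : ∀ x : ↥P, x ∈ V ↔ x ^ p = 1 := by
    rw [hVdef]; exact omega_subgroupOf_mem hE hP
  have hinv : ∀ α ∈ F.autGroup P, ∀ x ∈ V, α x ∈ V := by
    rw [hVdef]; exact omega_aut_inv hE hP _
  rw [← hVdef] at hc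
  obtain ⟨f, hf⟩ : ∃ f : F.autGroup P →* MulAut V, f = resAut (F.autGroup P) V hinv := ⟨_, rfl⟩
  have hfapp : ∀ (α : F.autGroup P) (v : V), ((f α v : V) : ↥P) = (α : MulAut ↥P) v := by
    intro α v
    rw [hf]
    rfl
  have hker : IsPGroup p f.ker := by
    rw [hf]
    exact isPGroup_ker_resAut hp2 hPp (F.autGroup P) V hV hinv
  have hQ := sylow_map_not_normal f hker T hTn
  obtain ⟨hexp, e₁, e₂, he₁, he₂, hind, hgen, hQs, ⟨τ₁, hτ₁Q, hτ₁⟩, ⟨δ', hδ1, hδ2, hδn⟩,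
    ⟨ι', hι'⟩, hirr⟩ := torus_exists hp5 hc f.range _ hQ
  -- `P` is commutative
  obtain ⟨ι₀, hι₀⟩ := ι'.2
  have hι₀V : ∀ v ∈ V, (ι₀ : MulAut ↥P) v = v⁻¹ := by
    intro v hv
    have h1 := hι' ⟨v, hv⟩
    rw [← hι₀] at h1
    have h2 : ((f ι₀ ⟨v, hv⟩ : V) : ↥P) = (((⟨v, hv⟩ : V)⁻¹ : V) : ↥P) := by rw [h1]
    rw [hfapp] at h2
    exact h2
  obtain ⟨ι, hιA, hι2, hιV⟩ := exists_invol hp2 hPp (F.autGroup P) V hV hinv ι₀.1 ι₀.2 hι₀V
  have hcommP : ∀ x y : ↥P, x * y = y * x :=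
    comm_of_inverting hp2 hPp ι hι2 (fun v hv => hιV v ((hV v).mpr hv))
  have hHcomm : ∀ a b : V, a * b = b * a := fun a b => Subtype.ext (hcommP a b)
  -- `f` is injective
  have hfinj : ∀ c : F.autGroup P, f c = 1 → c = 1 := by
    intro c hc1
    have hmem : (c : MulAut ↥P) ∈ (pCore p (F.autGroup P)).map (F.autGroup P).subtype := by
      rw [mem_pCore_map_iff]
      refine ⟨f.ker.map (F.autGroup P).subtype, hker.map _, ?_, ?_,
        ⟨c, MonoidHom.mem_ker.mpr hc1, rfl⟩⟩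
      · rintro _ ⟨k, -, rfl⟩
        exact k.2
      · rintro a ha _ ⟨k, hk, rfl⟩
        refine ⟨⟨a, ha⟩ * k * ⟨a, ha⟩⁻¹, ?_, rfl⟩
        exact (inferInstance : f.ker.Normal).conj_mem k hk ⟨a, ha⟩
    rw [hrad.2, mem_Inn_iff] at hmem
    obtain ⟨a, ha, hax⟩ := hmem
    apply Subtype.ext
    apply MulEquiv.ext
    intro x
    apply Subtype.ext
    show (((c : MulAut ↥P) x : ↥P) : Ω) = x
    rw [hax]
    have h1 : a * (x : Ω) = (x : Ω) * a := congrArg Subtype.val (hcommP ⟨a, ha⟩ x)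
    rw [h1, mul_inv_cancel_right]
  -- irreducibility
  have hirr' : ∀ B : Subgroup ↥P, B ≤ V → (∀ α ∈ F.autGroup P, ∀ x ∈ B, α x ∈ B) →
      B = ⊥ ∨ B = V := by
    intro B hBV hBinv
    rcases hirr (B.subgroupOf V) (by
      rintro γ ⟨α, rfl⟩ x hx
      rw [Subgroup.mem_subgroupOf] at hx ⊢
      rw [hfapp]
      exact hBinv α α.2 _ hx) with h | h
    · left
      rw [eq_bot_iff]
      intro x hx
      have h1 : (⟨x, hBV hx⟩ : V) ∈ B.subgroupOf V := Subgroup.mem_subgroupOf.mpr hx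
      rw [h, Subgroup.mem_bot] at h1
      exact Subgroup.mem_bot.mpr (congrArg Subtype.val h1)
    · right
      apply le_antisymm hBV
      intro v hv
      have h1 : (⟨v, hv⟩ : V) ∈ B.subgroupOf V := h ▸ Subgroup.mem_top _
      exact Subgroup.mem_subgroupOf.mp h1
  -- an element of order `p` in `T`
  have hTne : (T : Subgroup (F.autGroup P)) ≠ ⊥ := by
    intro h0
    apply hTn
    rw [h0]
    infer_instance
  obtain ⟨⟨t₀, ht₀⟩, ht₀1⟩ := (Subgroup.ne_bot_iff_exists_ne_one).mp hTne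
  obtain ⟨m, hm1, hmp⟩ := exists_pow_order_p T.isPGroup' ht₀1
  obtain ⟨c, hcdef⟩ : ∃ c : F.autGroup P, c = t₀ ^ p ^ m := ⟨_, rfl⟩
  have hcT : c ∈ T := hcdef ▸ Subgroup.pow_mem _ ht₀ _
  have hc1 : c ≠ 1 := by
    intro h
    apply hm1
    apply Subtype.ext
    show t₀ ^ p ^ m = 1
    rw [← hcdef]
    exact h
  have hcp : c ^ p = 1 := by
    have h1 : ((t₀ ^ p ^ m) ^ p : F.autGroup P) = 1 := congrArg Subtype.val hmp
    rw [hcdef]
    exact h1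
  obtain ⟨hce₁, kc, hce₂⟩ := hQs (f.rangeRestrict c) ((mem_mapSylow_iff f T _).mpr ⟨c, hcT, rfl⟩)
  have hce₁' : f c e₁ = e₁ := hce₁
  have hce₂' : f c e₂ = e₂ * e₁ ^ kc := hce₂
  have hcV' : ∀ v : V, f c (f c v * v⁻¹) = f c v * v⁻¹ := by
    intro v
    obtain ⟨i, j, rfl⟩ := hgen v
    have h1 : f c (e₁ ^ i * e₂ ^ j) * (e₁ ^ i * e₂ ^ j)⁻¹ = e₁ ^ (kc * j) := by
      rw [map_mul, map_pow, map_pow, hce₁', hce₂',
        (show Commute e₂ (e₁ ^ kc) from hHcomm _ _).mul_pow, ← pow_mul, ← mul_assoc,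
        hHcomm (e₁ ^ i * e₂ ^ j), mul_inv_cancel_right]
    rw [h1, map_pow, hce₁']
  have hcV : ∀ v ∈ V, (c : MulAut ↥P) ((c : MulAut ↥P) v * v⁻¹) = (c : MulAut ↥P) v * v⁻¹ := by
    intro v hv
    have h2 : ((f c (f c ⟨v, hv⟩ * (⟨v, hv⟩ : V)⁻¹) : V) : ↥P) =
        ((f c ⟨v, hv⟩ * (⟨v, hv⟩ : V)⁻¹ : V) : ↥P) := congrArg Subtype.val (hcV' ⟨v, hv⟩)
    rw [hfapp, Subgroup.coe_mul, Subgroup.coe_inv, hfapp] at h2
    exact h2
  have hc1' : ∃ v ∈ V, (c : MulAut ↥P) v ≠ v := by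
    by_contra hcon
    push Not at hcon
    apply hc1
    apply hfinj
    apply MulEquiv.ext
    intro v
    apply Subtype.ext
    rw [hfapp]
    exact hcon v v.2
  have hPexp : ∀ x : ↥P, x ^ p = 1 :=
    exp_p_of_irred hp5 hPp hcommP V hV (F.autGroup P) hirr' (c : MulAut ↥P)
      (by
        have h1 : ((c ^ p : F.autGroup P) : MulAut ↥P) = 1 := by rw [hcp]; rfl
        exact h1) hcV hc1'
  have hVtop : ∀ x : ↥P, x ∈ V := fun x => (hV x).mpr (hPexp x)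
  have hPE : P ≤ E := by
    intro x hx
    refine (hE x).mpr ⟨hP hx, ?_⟩
    have h1 := congrArg Subtype.val (hPexp ⟨x, hx⟩)
    exact h1
  have hPcard : Nat.card P = p ^ 2 := by
    have h1 : V = ⊤ := by
      rw [eq_top_iff]
      intro x _
      exact hVtop x
    rw [h1, Subgroup.card_top] at hc
    exact hc
  -- `E` normalizes `P`
  have hEN : ∀ a ∈ E, ∀ x ∈ P, a * x * a⁻¹ ∈ P := by
    have hidx : (P.subgroupOf E).index = p := by
      have h1 := Subgroup.card_mul_index (P.subgroupOf E)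
      have h2 : Nat.card (P.subgroupOf E) = p ^ 2 := by
        rw [← hPcard]
        exact Nat.card_congr (Subgroup.subgroupOfEquivOfLe hPE).toEquiv
      rw [h2, hEcard] at h1
      have h3 : p ^ 2 * (P.subgroupOf E).index = p ^ 2 * p := by
        rw [h1]; ring
      exact Nat.eq_of_mul_eq_mul_left (pow_pos hpp.pos 2) h3
    have hn : (P.subgroupOf E).Normal := by
      apply Subgroup.normal_of_index_eq_minFac_card
      rw [hidx, hEcard, hpp.pow_minFac (by norm_num)]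
    intro a ha x hx
    have h1 := hn.conj_mem ⟨x, hPE hx⟩ (Subgroup.mem_subgroupOf.mpr hx) ⟨a, ha⟩
    exact Subgroup.mem_subgroupOf.mp h1
  -- coordinates in `Ω`
  obtain ⟨E₁, hE₁⟩ : ∃ E₁ : Ω, E₁ = ((e₁ : ↥P) : Ω) := ⟨_, rfl⟩
  obtain ⟨E₂, hE₂⟩ : ∃ E₂ : Ω, E₂ = ((e₂ : ↥P) : Ω) := ⟨_, rfl⟩
  have hE₁P : E₁ ∈ P := hE₁ ▸ (e₁ : ↥P).2
  have hE₂P : E₂ ∈ P := hE₂ ▸ (e₂ : ↥P).2
  have hE₁p : E₁ ^ p = 1 := by
    have h1 := congrArg Subtype.val (hPexp (e₁ : ↥P))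
    rw [hE₁]
    exact h1
  have hgenΩ : ∀ x ∈ P, ∃ i j : ℕ, x = E₁ ^ i * E₂ ^ j := by
    intro x hx
    obtain ⟨i, j, hij⟩ := hgen ⟨⟨x, hx⟩, hVtop _⟩
    refine ⟨i, j, ?_⟩
    have h1 := congrArg (fun v : V => ((v : ↥P) : Ω)) hij
    rw [hE₁, hE₂]
    exact h1
  have hTact : ∀ a ∈ S, (∀ x ∈ P, a * x * a⁻¹ ∈ P) →
      a * E₁ * a⁻¹ = E₁ ∧ ∃ k : ℕ, a * E₂ * a⁻¹ = E₂ * E₁ ^ k := by
    intro a ha haN
    obtain ⟨t, htT, ht⟩ := exists_conj_mem_sylow hP T hT ha haN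
    obtain ⟨h1, k, h2⟩ := hQs (f.rangeRestrict t) ((mem_mapSylow_iff f T _).mpr ⟨t, htT, rfl⟩)
    have h1' : f t e₁ = e₁ := h1
    have h2' : f t e₂ = e₂ * e₁ ^ k := h2
    constructor
    · have h3 : (((f t e₁ : V) : ↥P) : Ω) = ((e₁ : ↥P) : Ω) := by rw [h1']
      rw [hfapp, ht] at h3
      rw [hE₁]
      exact h3
    · refine ⟨k, ?_⟩
      have h3 : (((f t e₂ : V) : ↥P) : Ω) = (((e₂ * e₁ ^ k : V) : ↥P) : Ω) := by rw [h2']
      rw [hfapp, ht] at h3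
      rw [hE₁, hE₂]
      exact h3
  have hcentP : ∀ a ∈ S, a * E₁ * a⁻¹ = E₁ → a * E₂ * a⁻¹ = E₂ → a ∈ P := by
    intro a ha h1 h2
    apply hcen
    refine ⟨ha, Subgroup.mem_centralizer_iff.mpr ?_⟩
    intro x hx
    obtain ⟨i, j, rfl⟩ := hgenΩ x hx
    have h3 : a * (E₁ ^ i * E₂ ^ j) * a⁻¹ = E₁ ^ i * E₂ ^ j := by
      rw [← conj_mul, ← conj_pow, ← conj_pow, h1, h2]
    calc E₁ ^ i * E₂ ^ j * a = a * (E₁ ^ i * E₂ ^ j) * a⁻¹ * a := by rw [h3]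
      _ = a * (E₁ ^ i * E₂ ^ j) := by group
  obtain ⟨a₀, ha₀E, ha₀P⟩ : ∃ a₀ ∈ E, a₀ ∉ P := by
    by_contra hcon
    push Not at hcon
    have h1 := Subgroup.card_le_of_le (show E ≤ P from hcon)
    rw [hEcard, hPcard] at h1
    have h2 : p ^ 2 < p ^ 3 := Nat.pow_lt_pow_right hpp.one_lt (by norm_num)
    omega
  obtain ⟨ha₀1, ka, hka⟩ := hTact a₀ (hES ha₀E) (hEN a₀ ha₀E)
  have hkap : ¬ p ∣ ka := by
    rintro ⟨d, rfl⟩
    apply ha₀P
    apply hcentP a₀ (hES ha₀E) ha₀1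
    rw [hka, pow_mul, hE₁p, one_pow, mul_one]
  have hs_in : ∀ s ∈ S, (∀ x ∈ P, s * x * s⁻¹ ∈ P) → s ∈ E := by
    intro s hs hsN
    obtain ⟨hs1, ks, hks⟩ := hTact s hs hsN
    obtain ⟨m', -, hm'⟩ := Nat.exists_mul_mod_eq_one_of_coprime
      (((Nat.Prime.coprime_iff_not_dvd hpp).mpr hkap).symm) hpp.one_lt
    have h1 := conj_pow_tv ha₀1 hka (m' * ks)
    have h2 : E₁ ^ (ka * (m' * ks)) = E₁ ^ ks := by
      rw [← mul_assoc, pow_mul, pow_eq_pow_mod _ hE₁p, hm', pow_one]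
    rw [h2] at h1
    have ha₀n : a₀ ^ (m' * ks) ∈ E := E.pow_mem ha₀E _
    obtain ⟨d, hd⟩ : ∃ d : Ω, d = (a₀ ^ (m' * ks))⁻¹ * s := ⟨_, rfl⟩
    have hdS : d ∈ S := hd ▸ S.mul_mem (S.inv_mem (hES ha₀n)) hs
    have hd1 : d * E₁ * d⁻¹ = E₁ := by
      have h3 : a₀ ^ (m' * ks) * E₁ * (a₀ ^ (m' * ks))⁻¹ = E₁ := by
        have h4 := conj_pow_tv (x := E₁) (k := 0) ha₀1 (by rw [pow_zero, mul_one]; exact ha₀1)
          (m' * ks)
        rw [zero_mul, pow_zero, mul_one] at h4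
        exact h4
      have h5 : (a₀ ^ (m' * ks))⁻¹ * E₁ * (a₀ ^ (m' * ks)) = E₁ := by
        nth_rewrite 1 [← h3]
        group
      rw [hd]
      calc (a₀ ^ (m' * ks))⁻¹ * s * E₁ * ((a₀ ^ (m' * ks))⁻¹ * s)⁻¹
          = (a₀ ^ (m' * ks))⁻¹ * (s * E₁ * s⁻¹) * (a₀ ^ (m' * ks)) := by group
        _ = E₁ := by rw [hs1, h5]
    have hd2 : d * E₂ * d⁻¹ = E₂ := by
      rw [hd]
      calc (a₀ ^ (m' * ks))⁻¹ * s * E₂ * ((a₀ ^ (m' * ks))⁻¹ * s)⁻¹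
          = (a₀ ^ (m' * ks))⁻¹ * (s * E₂ * s⁻¹) * (a₀ ^ (m' * ks)) := by group
        _ = (a₀ ^ (m' * ks))⁻¹ * (a₀ ^ (m' * ks) * E₂ * (a₀ ^ (m' * ks))⁻¹) *
            (a₀ ^ (m' * ks)) := by rw [hks, h1]
        _ = E₂ := by group
    have hdP := hcentP d hdS hd1 hd2
    have h6 : s = a₀ ^ (m' * ks) * d := by rw [hd]; group
    rw [h6]
    exact E.mul_mem ha₀n (hPE hdP)
  -- the torus
  obtain ⟨δ, hδ⟩ := δ'.2
  have hδT : ∀ t : F.autGroup P, t ∈ T → δ * t * δ⁻¹ ∈ T := by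
    apply sylow_map_conj f hker T δ
    intro q hq
    have e1 : f.rangeRestrict δ = δ' := Subtype.ext hδ
    rw [e1]
    exact hδn q hq
  obtain ⟨g₀, hg₀def⟩ : ∃ g₀ : Ω → Ω, g₀ = autFun P (δ : MulAut ↥P) := ⟨_, rfl⟩
  have hg₀ : Mor F P g₀ := hg₀def ▸ (mem_autGroup_iff F hP (δ : MulAut ↥P)).mp δ.2
  have himg₀ : img P g₀ = P := by
    rw [hg₀def]
    exact img_autFun _
  obtain ⟨g, hg, hgP⟩ := receptive_extend hrec hg₀ himg₀ E hPE (fun a ha =>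
    ⟨hES ha, mem_normalizer_of_finite (hEN a ha), by
      rw [hg₀def]
      exact ext_cond_of_normalizes hP T hT δ hδT (hES ha) (hEN a ha)⟩)
  have hge : g E₂ = E₂ ^ ((p + 1) / 2) := by
    rw [hgP E₂ hE₂P, hg₀def, autFun_apply' _ hE₂P]
    have h1 : f δ e₂ = e₂ ^ ((p + 1) / 2) := by
      rw [hδ]
      exact hδ2
    have h2 : (((f δ e₂ : V) : ↥P) : Ω) = (((e₂ ^ ((p + 1) / 2) : V) : ↥P) : Ω) := by rw [h1]
    rw [hfapp] at h2
    have h3 : (⟨E₂, hE₂P⟩ : ↥P) = (e₂ : ↥P) := Subtype.ext hE₂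
    rw [h3, hE₂]
    exact h2
  have hrecE := omega_receptive hS hF hE
  by_cases hN : ∀ a ∈ S, ∃ b ∈ S, ∀ x ∈ E, g (a * x * a⁻¹) = b * g x * b⁻¹
  · obtain ⟨s, hsS, hsE⟩ : ∃ s ∈ S, s ∉ E := by
      by_contra hcon
      push Not at hcon
      exact hES' (le_antisymm hES hcon)
    have hs : ∀ (i : ℕ) (v : Ω), v ∈ E → (∀ x ∈ E, x * v = v * x) →
        s * E₂ * s⁻¹ ≠ E₂ ^ i * v := by
      intro i v hv hvc heq
      apply hsE
      apply hs_in s hsS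
      have hvP : v ∈ P :=
        hcen ⟨hES hv, Subgroup.mem_centralizer_iff.mpr (fun x hx => hvc x (hPE hx))⟩
      have h2P : s * E₂ * s⁻¹ ∈ P := by
        rw [heq]
        exact P.mul_mem (P.pow_mem hE₂P i) hvP
      have h1c : ∀ x ∈ E, x * E₁ = E₁ * x := by
        intro x hx
        have h3 := (hTact x (hES hx) (hEN x hx)).1
        calc x * E₁ = x * E₁ * x⁻¹ * x := by group
          _ = E₁ * x := by rw [h3]
      have h1P : s * E₁ * s⁻¹ ∈ P := by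
        apply hcen
        refine ⟨S.mul_mem (S.mul_mem hsS (hP hE₁P)) (S.inv_mem hsS),
          Subgroup.mem_centralizer_iff.mpr ?_⟩
        intro x hx
        have hx' : s⁻¹ * x * s ∈ E := by
          have h3 := omega_conj_mem hE (S.inv_mem hsS) (hPE hx)
          rwa [inv_inv] at h3
        have h4 := h1c _ hx'
        calc x * (s * E₁ * s⁻¹) = s * ((s⁻¹ * x * s) * E₁) * s⁻¹ := by group
          _ = s * (E₁ * (s⁻¹ * x * s)) * s⁻¹ := by rw [h4]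
          _ = s * E₁ * s⁻¹ * x := by group
      intro x hx
      obtain ⟨i', j', rfl⟩ := hgenΩ x hx
      rw [← conj_mul, ← conj_pow, ← conj_pow]
      exact P.mul_mem (P.pow_mem h1P _) (P.pow_mem h2P _)
    exact half_sq_ne hpp hp5 (final_step hp2 hS hrank3 hE hEcard hrecE hg hN (hPE hE₂P)
      E.one_mem (fun x _ => by rw [mul_one, one_mul]) ((p + 1) / 2) (by rw [hge, mul_one]) hsS hs)
  · push Not at hN
    obtain ⟨a, ha, hab⟩ := hN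
    apply prop_E hp5 hS hF hrank3 hE hEcard
    have hgE : ∀ x ∈ E, g x ∈ E := fun x hx => mor_omega hE hg hx hx
    obtain ⟨γ, hγA, hγ⟩ := exists_aut_of_mor hg hgE
    obtain ⟨τ, -, hτ⟩ := exists_aut_of_mor (mor_conj F hES ha)
      (fun x hx => omega_conj_mem hE ha hx)
    refine ⟨γ, hγA, τ, (mem_autInducedBy_iff S E τ).mpr ⟨a, ha, hτ⟩, ?_⟩
    intro hmem
    obtain ⟨b, hb, hbx⟩ := (mem_autInducedBy_iff S E _).mp hmem
    obtain ⟨x, hx, hne⟩ := hab b hb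
    apply hne
    have h1 := hbx (γ ⟨x, hx⟩)
    have h2 : (γ * τ * γ⁻¹) (γ ⟨x, hx⟩) = γ (τ ⟨x, hx⟩) := by simp
    rw [h2, hγ, hγ, hτ] at h1
    exact h1

end Cfsg.Agent.Lib.Helper59.RkF
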