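import Mathlib
import Cfsg.Agent.Lib.Helper50.SU4Q3Def
import Cfsg.Agent.Lib.Helper71.Asch5

/-!
# Project SU4 (helper50, S5784), sub-piece Q3IRR (insurance copy by helper59)

The two-qubit Pauli group `su4Pauli ι` acts absolutely irreducibly on `F^4` (characteristic not 2).
-/

set_option autoImplicit false
set_option linter.unusedVariables false

namespace Cfsg.Agent.Lib.Helper59.SU4Q3IRR

open Matrix Cfsg.Geo Cfsg.Agent.Lib.Helper71.Asch Cfsg.Agent.Lib.Helper50.SU4Q3Def

variable {F : Type*} [Field F] [Fintype F] {q : ℕ}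

/-- `X₁` -/
def su4q3irr_X1 (F : Type*) [Field F] : Matrix (Fin 4) (Fin 4) F :=
  !![0, 0, 1, 0; 0, 0, 0, 1; 1, 0, 0, 0; 0, 1, 0, 0]

/-- `X₂` -/
def su4q3irr_X2 (F : Type*) [Field F] : Matrix (Fin 4) (Fin 4) F :=
  !![0, 1, 0, 0; 1, 0, 0, 0; 0, 0, 0, 1; 0, 0, 1, 0]

theorem su4q3irr_Z1sq : (Matrix.diagonal ![1, 1, -1, -1] : Matrix (Fin 4) (Fin 4) F) *
    Matrix.diagonal ![1, 1, -1, -1] = 1 := by
  rw [Matrix.diagonal_mul_diagonal]
  ext i j
  fin_cases i <;> fin_cases j <;> simp [Matrix.diagonal_apply, Matrix.one_apply]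

theorem su4q3irr_Z2sq : (Matrix.diagonal ![1, -1, 1, -1] : Matrix (Fin 4) (Fin 4) F) *
    Matrix.diagonal ![1, -1, 1, -1] = 1 := by
  rw [Matrix.diagonal_mul_diagonal]
  ext i j
  fin_cases i <;> fin_cases j <;> simp [Matrix.diagonal_apply, Matrix.one_apply]

theorem su4q3irr_X1sq : su4q3irr_X1 F * su4q3irr_X1 F = 1 := by
  ext i j
  fin_cases i <;> fin_cases j <;>
    simp [su4q3irr_X1, Matrix.mul_apply, Fin.sum_univ_four, Matrix.one_apply]

theorem su4q3irr_X2sq : su4q3irr_X2 F * su4q3irr_X2 F = 1 := by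
  ext i j
  fin_cases i <;> fin_cases j <;>
    simp [su4q3irr_X2, Matrix.mul_apply, Fin.sum_univ_four, Matrix.one_apply]

theorem su4q3irr_mem (ι : F) (A : Matrix (Fin 4) (Fin 4) F) (hA : A * A = 1)
    (hc : A = Matrix.diagonal ![1, 1, -1, -1] ∨ A = Matrix.diagonal ![1, -1, 1, -1] ∨
      A = su4q3irr_X1 F ∨ A = su4q3irr_X2 F) : A ∈ matrixSet (su4Pauli ι) :=
  ⟨⟨A, A, hA, hA⟩, Subgroup.subset_closure (Or.inr hc), rfl⟩

theorem su4q3irr_X1vec (w : Fin 4 → F) :
    su4q3irr_X1 F *ᵥ w = fun k => w ((![2, 3, 0, 1] : Fin 4 → Fin 4) k) := by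
  funext k
  fin_cases k <;> simp [su4q3irr_X1, Matrix.mulVec, dotProduct, Fin.sum_univ_four]

theorem su4q3irr_X2vec (w : Fin 4 → F) :
    su4q3irr_X2 F *ᵥ w = fun k => w ((![1, 0, 3, 2] : Fin 4 → Fin 4) k) := by
  funext k
  fin_cases k <;> simp [su4q3irr_X2, Matrix.mulVec, dotProduct, Fin.sum_univ_four]

theorem su4q3irr_diagvec (d w : Fin 4 → F) :
    Matrix.diagonal d *ᵥ w = fun k => d k * w k := by
  funext k
  exact Matrix.mulVec_diagonal d w k

theorem su4q3irr_offdiag (d : Fin 4 → F) (M : Matrix (Fin 4) (Fin 4) F) (h2 : (2 : F) ≠ 0)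
    (h : M * Matrix.diagonal d = Matrix.diagonal d * M) (i j : Fin 4) (hd : d j = - d i)
    (hdi : d i ≠ 0) : M i j = 0 := by
  have h1 := congrFun (congrFun h i) j
  rw [Matrix.mul_diagonal, Matrix.diagonal_mul, hd] at h1
  have h3 : (2 * d i) * M i j = 0 := by linear_combination -h1
  rcases mul_eq_zero.mp h3 with h4 | h4
  · exact absurd h4 (mul_ne_zero h2 hdi)
  · exact h4

/-- Q3IRR: the Pauli group is absolutely irreducible (characteristic not 2). -/
theorem Q3IRR (ι : F) (hι : ι ^ 2 = -1) (h2 : (2 : F) ≠ 0) :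
    ActsAbsolutelyIrreducibly (matrixSet (su4Pauli ι)) := by
  have m1 := su4q3irr_mem ι _ (su4q3irr_Z1sq (F := F)) (Or.inl rfl)
  have m2 := su4q3irr_mem ι _ (su4q3irr_Z2sq (F := F)) (Or.inr (Or.inl rfl))
  have m3 := su4q3irr_mem ι _ (su4q3irr_X1sq (F := F)) (Or.inr (Or.inr (Or.inl rfl)))
  have m4 := su4q3irr_mem ι _ (su4q3irr_X2sq (F := F)) (Or.inr (Or.inr (Or.inr rfl)))
  constructor
  · intro W hW
    by_cases hW0 : W = ⊥
    · exact Or.inl hW0
    right
    have c1 : ∀ w ∈ W, (fun k => (![1, 1, -1, -1] : Fin 4 → F) k * w k) ∈ W := by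
      intro w hw
      have h := hW _ m1 (Submodule.mem_map_of_mem hw)
      rw [Matrix.toLin'_apply, su4q3irr_diagvec] at h
      exact h
    have c2 : ∀ w ∈ W, (fun k => (![1, -1, 1, -1] : Fin 4 → F) k * w k) ∈ W := by
      intro w hw
      have h := hW _ m2 (Submodule.mem_map_of_mem hw)
      rw [Matrix.toLin'_apply, su4q3irr_diagvec] at h
      exact h
    have c3 : ∀ w ∈ W, (fun k => w ((![2, 3, 0, 1] : Fin 4 → Fin 4) k)) ∈ W := by
      intro w hw
      have h := hW _ m3 (Submodule.mem_map_of_mem hw)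
      rw [Matrix.toLin'_apply, su4q3irr_X1vec] at h
      exact h
    have c4 : ∀ w ∈ W, (fun k => w ((![1, 0, 3, 2] : Fin 4 → Fin 4) k)) ∈ W := by
      intro w hw
      have h := hW _ m4 (Submodule.mem_map_of_mem hw)
      rw [Matrix.toLin'_apply, su4q3irr_X2vec] at h
      exact h
    -- a vector of `W` with non-zero first coordinate
    obtain ⟨w, hwW, hw0⟩ : ∃ w ∈ W, w 0 ≠ 0 := by
      obtain ⟨w, hwW, hwne⟩ := (Submodule.ne_bot_iff W).mp hW0
      have hj : ∃ j, w j ≠ 0 := by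
        by_contra hcon
        push Not at hcon
        exact hwne (funext hcon)
      obtain ⟨j, hj⟩ := hj
      fin_cases j
      · exact ⟨w, hwW, hj⟩
      · exact ⟨_, c4 w hwW, hj⟩
      · exact ⟨_, c3 w hwW, hj⟩
      · exact ⟨_, c4 _ (c3 w hwW), hj⟩
    -- `e₀ ∈ W`
    have he0 : (Pi.single 0 1 : Fin 4 → F) ∈ W := by
      have hu := W.add_mem hwW (c1 w hwW)
      have hv := W.add_mem hu (c2 _ hu)
      have h4 : (4 * w 0 : F) ≠ 0 := by
        have h22 : (4 : F) = 2 * 2 := by norm_num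
        rw [h22]
        exact mul_ne_zero (mul_ne_zero h2 h2) hw0
      have hveq : (w + fun k => (![1, 1, -1, -1] : Fin 4 → F) k * w k) +
          (fun k => (![1, -1, 1, -1] : Fin 4 → F) k *
            (w + fun k => (![1, 1, -1, -1] : Fin 4 → F) k * w k) k) =
          (4 * w 0) • (Pi.single 0 1 : Fin 4 → F) := by
        funext k
        fin_cases k <;> simp [Pi.single_apply] <;> ring
      rw [hveq] at hv
      have h5 := W.smul_mem (4 * w 0)⁻¹ hv
      rwa [inv_smul_smul₀ h4] at h5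
    have he1 : (Pi.single 1 1 : Fin 4 → F) ∈ W := by
      have h := c4 _ he0
      have heq : (fun k => (Pi.single 0 1 : Fin 4 → F) ((![1, 0, 3, 2] : Fin 4 → Fin 4) k)) =
          Pi.single 1 1 := by
        funext k
        fin_cases k <;> simp [Pi.single_apply]
      rwa [heq] at h
    have he2 : (Pi.single 2 1 : Fin 4 → F) ∈ W := by
      have h := c3 _ he0
      have heq : (fun k => (Pi.single 0 1 : Fin 4 → F) ((![2, 3, 0, 1] : Fin 4 → Fin 4) k)) =
          Pi.single 2 1 := by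
        funext k
        fin_cases k <;> simp [Pi.single_apply]
      rwa [heq] at h
    have he3 : (Pi.single 3 1 : Fin 4 → F) ∈ W := by
      have h := c4 _ he2
      have heq : (fun k => (Pi.single 2 1 : Fin 4 → F) ((![1, 0, 3, 2] : Fin 4 → Fin 4) k)) =
          Pi.single 3 1 := by
        funext k
        fin_cases k <;> simp [Pi.single_apply]
      rwa [heq] at h
    rw [Submodule.eq_top_iff']
    intro x
    have hx : x = x 0 • (Pi.single 0 1 : Fin 4 → F) + x 1 • (Pi.single 1 1 : Fin 4 → F) +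
        x 2 • (Pi.single 2 1 : Fin 4 → F) + x 3 • (Pi.single 3 1 : Fin 4 → F) := by
      funext k
      fin_cases k <;> simp [Pi.single_apply]
    rw [hx]
    exact W.add_mem (W.add_mem (W.add_mem (W.smul_mem _ he0) (W.smul_mem _ he1))
      (W.smul_mem _ he2)) (W.smul_mem _ he3)
  · intro M hM
    have k1 := hM _ m1
    have k2 := hM _ m2
    have k3 := hM _ m3
    have k4 := hM _ m4
    have h01 : M 0 1 = 0 := su4q3irr_offdiag _ M h2 k2 0 1 (by simp) (by simp)
    have h10 : M 1 0 = 0 := su4q3irr_offdiag _ M h2 k2 1 0 (by simp) (by simp)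
    have h23 : M 2 3 = 0 := su4q3irr_offdiag _ M h2 k2 2 3 (by simp) (by simp)
    have h32 : M 3 2 = 0 := su4q3irr_offdiag _ M h2 k2 3 2 (by simp) (by simp)
    have h02 : M 0 2 = 0 := su4q3irr_offdiag _ M h2 k1 0 2 (by simp) (by simp)
    have h03 : M 0 3 = 0 := su4q3irr_offdiag _ M h2 k1 0 3 (by simp) (by simp)
    have h12 : M 1 2 = 0 := su4q3irr_offdiag _ M h2 k1 1 2 (by simp) (by simp)
    have h13 : M 1 3 = 0 := su4q3irr_offdiag _ M h2 k1 1 3 (by simp) (by simp)
    have h20 : M 2 0 = 0 := su4q3irr_offdiag _ M h2 k1 2 0 (by simp) (by simp)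
    have h21 : M 2 1 = 0 := su4q3irr_offdiag _ M h2 k1 2 1 (by simp) (by simp)
    have h30 : M 3 0 = 0 := su4q3irr_offdiag _ M h2 k1 3 0 (by simp) (by simp)
    have h31 : M 3 1 = 0 := su4q3irr_offdiag _ M h2 k1 3 1 (by simp) (by simp)
    have h22 : M 2 2 = M 0 0 := by
      have h := congrFun (congrFun k3 0) 2
      simp [su4q3irr_X1, Matrix.mul_apply, Fin.sum_univ_four] at h
      exact h.symm
    have h11 : M 1 1 = M 0 0 := by
      have h := congrFun (congrFun k4 0) 1
      simp [su4q3irr_X2, Matrix.mul_apply, Fin.sum_univ_four] at h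
      exact h.symm
    have h33 : M 3 3 = M 0 0 := by
      have h := congrFun (congrFun k4 2) 3
      simp [su4q3irr_X2, Matrix.mul_apply, Fin.sum_univ_four] at h
      rw [← h, h22]
    refine ⟨M 0 0, ?_⟩
    ext i j
    fin_cases i <;> fin_cases j <;>
      simp [Matrix.smul_apply, Matrix.one_apply, h01, h10, h23, h32, h02, h03, h12, h13, h20,
        h21, h30, h31, h11, h22, h33]

end Cfsg.Agent.Lib.Helper59.SU4Q3IRR
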