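import Cfsg.Agent.Lib.Helper22.W2Defs

/-!
# Project W2 (helper22, S4707), piece SIMPLE60 (backup by helper59)

A group of order 60 in which every non-trivial normal subgroup has order divisible by 10 and the
normalizer of a Sylow 5-subgroup has order 10 is simple.
-/

set_option autoImplicit false

namespace Cfsg.Agent.Lib.Helper59.W2

open Cfsg Cfsg.Agent.Lib.Helper22.W2

universe u

variable {G : Type u} [Group G] [Fintype G]

/-- PIECE SIMPLE60 -/
theorem simple60 (hcard : Nat.card G = 60)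
    (hnd : ∀ K : Subgroup G, K.Normal → K ≠ ⊥ → 10 ∣ Nat.card K) (P : Sylow 5 G)
    (hN : Nat.card (Subgroup.normalizer ((P : Subgroup G) : Set G)) = 10) :
    IsSimpleGroup G := by
  classical
  haveI : Fact (Nat.Prime 5) := ⟨by norm_num⟩
  haveI : Nontrivial G := by
    rw [← Finite.one_lt_card_iff_nontrivial, hcard]; norm_num
  -- card P = 5
  have hP5 : Nat.card (P : Subgroup G) = 5 := by
    obtain ⟨k, hk⟩ := IsPGroup.iff_card.mp P.isPGroup'
    have hdvd : Nat.card (P : Subgroup G) ∣ 10 := by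
      rw [← hN]
      exact Subgroup.card_dvd_of_le Subgroup.le_normalizer
    have hndvd : ¬ 5 ∣ (P : Subgroup G).index := P.not_dvd_index
    have hidx : Nat.card (P : Subgroup G) * (P : Subgroup G).index = 60 := by
      rw [← hcard]; exact Subgroup.card_mul_index _
    rw [hk] at hdvd hidx
    have hk1 : k ≤ 1 := by
      by_contra hcon
      push Not at hcon
      have h1 : 5 ^ 2 ∣ 5 ^ k := pow_dvd_pow 5 hcon
      have h2 : 5 ^ 2 ∣ 10 := h1.trans hdvd
      norm_num at h2
    interval_cases k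
    · exfalso; apply hndvd; rw [pow_zero, one_mul] at hidx; rw [hidx]; norm_num
    · rw [hk]; norm_num
  refine { eq_bot_or_eq_top_of_normal := fun K hK => ?_ }
  by_cases hKb : K = ⊥
  · exact Or.inl hKb
  right
  have h10 := hnd K hK hKb
  have hKidx : Nat.card K * K.index = 60 := by rw [← hcard]; exact Subgroup.card_mul_index K
  have hdvd6 : K.index ∣ 6 := by
    obtain ⟨c, hc⟩ := h10
    rw [hc] at hKidx
    exact ⟨c, by nlinarith⟩
  -- P ≤ K
  have hPK : (P : Subgroup G) ≤ K := by
    intro x hx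
    have hx5 : x ^ 5 = 1 := by
      have h1 := pow_card_eq_one' (G := (P : Subgroup G)) (x := ⟨x, hx⟩)
      rw [hP5] at h1
      exact congrArg Subtype.val h1
    have hq : (QuotientGroup.mk x : G ⧸ K) ^ K.index = 1 := by
      have h1 := pow_card_eq_one' (G := G ⧸ K) (x := (QuotientGroup.mk x : G ⧸ K))
      rwa [← Subgroup.index_eq_card] at h1
    have hq5 : (QuotientGroup.mk x : G ⧸ K) ^ 5 = 1 := by
      rw [← QuotientGroup.mk_pow, hx5]; rfl
    have hcop : Nat.gcd K.index 5 = 1 :=
      Nat.Coprime.coprime_dvd_left hdvd6 (by norm_num : Nat.Coprime 6 5)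
    have h1 : (QuotientGroup.mk x : G ⧸ K) = 1 := by
      have h2 := pow_gcd_eq_one.mpr ⟨hq, hq5⟩
      rwa [hcop, pow_one] at h2
    exact (QuotientGroup.eq_one_iff x).mp h1
  -- Frattini
  have hfr : Subgroup.normalizer ((P : Subgroup G) : Set G) ⊔ K = ⊤ :=
    Sylow.normalizer_sup_eq_top' P hPK
  have hrel : K.relIndex (Subgroup.normalizer ((P : Subgroup G) : Set G)) = K.index := by
    rw [← Subgroup.relIndex_sup_right, hfr, Subgroup.relIndex_top_right]
  have hdvd10 : K.index ∣ 10 := by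
    rw [← hrel, ← hN]; exact Subgroup.relIndex_dvd_card _ _
  have hdvd2 : K.index ∣ 2 := by
    have := Nat.dvd_gcd hdvd10 hdvd6
    norm_num at this
    exact this
  have hle2 : K.index ≤ 2 := Nat.le_of_dvd (by norm_num) hdvd2
  have hpos : 0 < K.index := Nat.pos_of_ne_zero (by intro h0; rw [h0] at hKidx; omega)
  by_contra hKtop
  have hidx2 : K.index = 2 := by
    have h1 : K.index ≠ 1 := fun h => hKtop (Subgroup.index_eq_one.mp h)
    omega
  have hK30 : Nat.card K = 30 := by rw [hidx2] at hKidx; omega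
  -- the Sylow 5-subgroup of K
  obtain ⟨PK, hPKdef⟩ : ∃ PK : Sylow 5 K, PK = P.subtype hPK := ⟨_, rfl⟩
  have hPKmem : ∀ y : K, y ∈ (PK : Subgroup K) ↔ (y : G) ∈ (P : Subgroup G) := by
    intro y
    rw [hPKdef, Sylow.coe_subtype, Subgroup.mem_subgroupOf]
  have hPKcard : Nat.card (PK : Subgroup K) = 5 := by
    rw [hPKdef, Sylow.coe_subtype]
    exact (Nat.card_congr (Subgroup.subgroupOfEquivOfLe hPK).toEquiv).trans hP5
  -- N_G(P) ⊓ K = P
  have hNK : ∀ y : G, y ∈ Subgroup.normalizer ((P : Subgroup G) : Set G) → y ∈ K →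
      y ∈ (P : Subgroup G) := by
    have hc : Nat.card ↥(K ⊓ Subgroup.normalizer ((P : Subgroup G) : Set G)) = 5 := by
      have h1 := Subgroup.card_mul_index
        (K.subgroupOf (Subgroup.normalizer ((P : Subgroup G) : Set G)))
      have h2 : (K.subgroupOf (Subgroup.normalizer ((P : Subgroup G) : Set G))).index = 2 := by
        rw [← hidx2, ← hrel]; rfl
      have h3 : Nat.card ↥(K.subgroupOf (Subgroup.normalizer ((P : Subgroup G) : Set G))) =
          Nat.card ↥(K ⊓ Subgroup.normalizer ((P : Subgroup G) : Set G)) := by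
        rw [← Subgroup.inf_subgroupOf_right]
        exact Nat.card_congr (Subgroup.subgroupOfEquivOfLe inf_le_right).toEquiv
      rw [h2, hN, h3] at h1
      omega
    have hle : (P : Subgroup G) ≤ K ⊓ Subgroup.normalizer ((P : Subgroup G) : Set G) :=
      le_inf hPK Subgroup.le_normalizer
    have heq : (P : Subgroup G) = K ⊓ Subgroup.normalizer ((P : Subgroup G) : Set G) :=
      Subgroup.eq_of_le_of_card_ge hle (by rw [hc, hP5])
    intro y hy1 hy2
    rw [heq]
    exact ⟨hy2, hy1⟩
  -- N_K(PK) ≤ C_K(PK)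
  haveI hcyc : IsCyclic ↥(PK : Subgroup K) := isCyclic_of_prime_card hPKcard
  have hPn : Subgroup.normalizer ((PK : Subgroup K) : Set K) ≤
      Subgroup.centralizer ((PK : Subgroup K) : Set K) := by
    intro n hn
    rw [Subgroup.mem_normalizer_iff] at hn
    have hnG : (n : G) ∈ Subgroup.normalizer ((P : Subgroup G) : Set G) := by
      rw [Subgroup.mem_normalizer_iff]
      intro h
      constructor
      · intro hh
        have hhK : h ∈ K := hPK hh
        have h1 := (hn ⟨h, hhK⟩).mp ((hPKmem ⟨h, hhK⟩).mpr hh)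
        exact (hPKmem _).mp h1
      · intro hh
        have hhK : h ∈ K := by
          have h1 : (n : G)⁻¹ * ((n : G) * h * (n : G)⁻¹) * (n : G) ∈ K :=
            K.mul_mem (K.mul_mem (K.inv_mem n.2) (hPK hh)) n.2
          have h2 : (n : G)⁻¹ * ((n : G) * h * (n : G)⁻¹) * (n : G) = h := by group
          rwa [h2] at h1
        have h1 := (hn ⟨h, hhK⟩).mpr ((hPKmem (n * ⟨h, hhK⟩ * n⁻¹)).mpr hh)
        exact (hPKmem _).mp h1
    have hnP : n ∈ (PK : Subgroup K) := (hPKmem n).mpr (hNK n hnG n.2)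
    rw [Subgroup.mem_centralizer_iff]
    intro h hh
    have h1 : (⟨h, hh⟩ : ↥(PK : Subgroup K)) * ⟨n, hnP⟩ = ⟨n, hnP⟩ * ⟨h, hh⟩ :=
      (inferInstance : Std.Commutative (α := ↥(PK : Subgroup K)) (· * ·)).comm _ _
    exact congrArg Subtype.val h1
  have hcompl := MonoidHom.ker_transferSylow_isComplement' PK hPn
  obtain ⟨φ, hφ⟩ : ∃ φ : K →* ↥(PK : Subgroup K), φ = MonoidHom.transferSylow PK hPn := ⟨_, rfl⟩
  rw [← hφ] at hcompl
  have hM6 : Nat.card φ.ker = 6 := by
    have h1 := hcompl.card_mul_card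
    rw [hPKcard, hK30] at h1
    omega
  have hMiff : ∀ y : K, y ∈ φ.ker ↔ y ^ 6 = 1 := by
    intro y
    constructor
    · intro hy
      have h1 := pow_card_eq_one' (G := φ.ker) (x := ⟨y, hy⟩)
      rw [hM6] at h1
      exact congrArg Subtype.val h1
    · intro hy
      rw [MonoidHom.mem_ker]
      have h6 : φ y ^ 6 = 1 := by rw [← map_pow, hy, map_one]
      have h5 : φ y ^ 5 = 1 := by
        have h1 := pow_card_eq_one' (G := ↥(PK : Subgroup K)) (x := φ y)
        rwa [hPKcard] at h1
      have h2 := pow_gcd_eq_one.mpr ⟨h6, h5⟩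
      have h3 : Nat.gcd 6 5 = 1 := by norm_num
      rwa [h3, pow_one] at h2
  have hnorm : (φ.ker.map K.subtype).Normal := by
    refine ⟨fun x hx g => ?_⟩
    obtain ⟨y, hy, rfl⟩ := Subgroup.mem_map.mp hx
    have hmemK : g * (y : G) * g⁻¹ ∈ K := hK.conj_mem _ y.2 g
    refine Subgroup.mem_map.mpr ⟨⟨g * (y : G) * g⁻¹, hmemK⟩, ?_, rfl⟩
    rw [hMiff]
    have hy6 : (y : G) ^ 6 = 1 := by
      have h1 := (hMiff y).mp hy
      have h2 := congrArg Subtype.val h1
      exact h2
    apply Subtype.ext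
    show (g * (y : G) * g⁻¹) ^ 6 = 1
    rw [conj_pow, hy6, mul_one, mul_inv_cancel]
  have hcardmap : Nat.card ↥(φ.ker.map K.subtype) = 6 := by
    rw [Subgroup.card_map_of_injective K.subtype_injective, hM6]
  have hne : φ.ker.map K.subtype ≠ ⊥ := by
    intro h
    rw [h, Subgroup.card_bot] at hcardmap
    omega
  have hfin := hnd _ hnorm hne
  rw [hcardmap] at hfin
  omega

end Cfsg.Agent.Lib.Helper59.W2
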